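import Groth.Prelude.Def_W4c1liftfrobW2
import Groth.Agent.W2Lift.Basic
import Groth.Agent.DispLib.ExtPow
import Mathlib.RingTheory.Kaehler.Basic
import Mathlib.Algebra.MvPolynomial.PDeriv
import Mathlib.Algebra.CharP.Lemmas
import Mathlib.FieldTheory.Perfect
import Mathlib.LinearAlgebra.Determinant

/-!
# The divided differential of a lift of Frobenius

For a lift `(B, ι, π, Φ)` of `A` with Frobenius over `W₂(k)`, the map `x ↦ x ^ (p-1) dx + d f`,
`Φ b = b ^ p + p F`, `f = π F`, `x = π b`, extends to a Frobenius-semilinear endomorphism of `Ω[A⁄k]`.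
-/

set_option autoImplicit false
set_option linter.unusedSectionVars false

universe u v w

namespace Groth.Agent.Frob15

open KaehlerDifferential

section Poly

/-- The chain rule for a polynomial in elements. -/
theorem derivation_aeval {R A M : Type*} [CommRing R] [CommRing A] [Algebra R A] [AddCommGroup M] [Module A M]
    [Module R M] (D : Derivation R A M) {σ : Type*} [Fintype σ] (v : σ → A) (G : MvPolynomial σ ℤ) :
    D (MvPolynomial.aeval v G) = ∑ i, MvPolynomial.aeval v (MvPolynomial.pderiv i G) • D (v i) := by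
  classical
  induction G using MvPolynomial.induction_on with
  | C a => simp [Derivation.map_intCast]
  | add a b ha hb => simp only [map_add, ha, hb, add_smul, Finset.sum_add_distrib]
  | mul_X a j ha =>
    simp only [map_mul, MvPolynomial.aeval_X, Derivation.leibniz, ha, smul_eq_mul, map_add, add_smul,
      Finset.smul_sum, Finset.sum_add_distrib, MvPolynomial.pderiv_X, mul_smul]
    congr 1
    rw [Finset.sum_eq_single j]
    · simp
    · intro i _ hi; simp [Pi.single_eq_of_ne (Ne.symm hi)]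
    · exact fun h => absurd (Finset.mem_univ j) h

/-- The carry polynomial of `(X + Y) ^ p`. -/
theorem exists_carry (p : ℕ) [hp : Fact p.Prime] : ∃ G : MvPolynomial (Fin 2) ℤ,
    (MvPolynomial.X 0 + MvPolynomial.X 1) ^ p =
      MvPolynomial.X 0 ^ p + MvPolynomial.X 1 ^ p + (p : MvPolynomial (Fin 2) ℤ) * G ∧
    MvPolynomial.pderiv 0 G = (MvPolynomial.X 0 + MvPolynomial.X 1) ^ (p - 1) - MvPolynomial.X 0 ^ (p - 1) ∧
    MvPolynomial.pderiv 1 G = (MvPolynomial.X 0 + MvPolynomial.X 1) ^ (p - 1) - MvPolynomial.X 1 ^ (p - 1) := by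
  obtain ⟨r, hr⟩ := exists_add_pow_prime_eq hp.out (MvPolynomial.X 0 : MvPolynomial (Fin 2) ℤ) (MvPolynomial.X 1)
  have hG : (MvPolynomial.X 0 + MvPolynomial.X 1 : MvPolynomial (Fin 2) ℤ) ^ p =
      MvPolynomial.X 0 ^ p + MvPolynomial.X 1 ^ p +
        (p : MvPolynomial (Fin 2) ℤ) * (MvPolynomial.X 0 * MvPolynomial.X 1 * r) := by
    rw [hr]; ring
  have hp0 : (p : MvPolynomial (Fin 2) ℤ) ≠ 0 := Nat.cast_ne_zero.2 hp.out.ne_zero
  generalize MvPolynomial.X 0 * MvPolynomial.X 1 * r = G at hG
  refine ⟨G, hG, ?_, ?_⟩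
  · have h := congrArg (MvPolynomial.pderiv (0 : Fin 2)) hG
    simp only [map_add, Derivation.leibniz_pow, Derivation.leibniz, Derivation.map_natCast,
      MvPolynomial.pderiv_X_self, MvPolynomial.pderiv_X_of_ne (show (1 : Fin 2) ≠ 0 by decide),
      smul_eq_mul, nsmul_eq_mul, mul_one, mul_zero, add_zero] at h
    exact mul_left_cancel₀ hp0 (by linear_combination -h)
  · have h := congrArg (MvPolynomial.pderiv (1 : Fin 2)) hG
    simp only [map_add, Derivation.leibniz_pow, Derivation.leibniz, Derivation.map_natCast,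
      MvPolynomial.pderiv_X_self, MvPolynomial.pderiv_X_of_ne (show (0 : Fin 2) ≠ 1 by decide),
      smul_eq_mul, nsmul_eq_mul, mul_one, mul_zero, add_zero, zero_add] at h
    exact mul_left_cancel₀ hp0 (by linear_combination -h)

end Poly

/-- A lifting of `A` over `W₂(k)` with an endomorphism reducing to Frobenius (semilinearity over `W₂(k)` is not
required). -/
structure IsFLift (p : ℕ) [Fact p.Prime] (k : Type u) [Field k] (A : Type u) [CommRing A] [Algebra k A]
    (B : Type u) [CommRing B] (ι : FrobAlg.W2 p k →+* B) (π : B →+* A) (Φ : B →+* B) : Prop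
    extends FrobAlg.IsLift p k A B ι π where
  red : ∀ b : B, π (Φ b) = π b ^ p

variable {p : ℕ} [hp : Fact p.Prime] {k : Type u} [Field k] [CharP k p] [PerfectRing k p]
  {A : Type u} [CommRing A] [Algebra k A] {B : Type u} [CommRing B] {ι : FrobAlg.W2 p k →+* B}
  {π : B →+* A} {Φ : B →+* B} (hΦ : IsFLift p k A B ι π Φ)

include hΦ in
theorem natCast_p_eq_zero : (p : A) = 0 := by
  rw [← map_natCast π]; exact W2Lift.lift_map_p hΦ.toIsLift

include hΦ in
theorem D_pow_p (y : A) : D k A (y ^ p) = 0 := by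
  rw [Derivation.leibniz_pow, ← Nat.cast_smul_eq_nsmul A, natCast_p_eq_zero hΦ, zero_smul]

include hΦ in
/-- A divided difference exists. -/
theorem exists_divided (b : B) : ∃ F : B, Φ b = b ^ p + (p : B) * F := by
  obtain ⟨F, hF⟩ := (W2Lift.lift_ker_iff hΦ.toIsLift (Φ b - b ^ p)).1 (by rw [map_sub, map_pow, hΦ.red, sub_self])
  exact ⟨F, eq_add_of_sub_eq' hF⟩

include hΦ in
/-- The divided differential does not depend on the lifts. -/
theorem D_divided_eq {b b' F F' : B} (hb : π b = π b') (hF : Φ b = b ^ p + (p : B) * F)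
    (hF' : Φ b' = b' ^ p + (p : B) * F') : D k A (π F) = D k A (π F') := by
  have h := hΦ.toIsLift
  obtain ⟨y, hy⟩ := (W2Lift.lift_ker_iff h (b' - b)).1 (by rw [map_sub, hb, sub_self])
  have hb' : b' = b + (p : B) * y := eq_add_of_sub_eq' hy
  have h1 : b' ^ p = b ^ p := by
    obtain ⟨r, hr⟩ := exists_add_pow_prime_eq hp.out b ((p : B) * y)
    obtain ⟨q, hq⟩ : (p : B) * (p : B) ∣ ((p : B) * y) ^ p :=
      (mul_dvd_mul (dvd_mul_right _ y) (dvd_mul_right _ y)).trans ((sq ((p : B) * y)) ▸ pow_dvd_pow _ hp.out.two_le)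
    rw [hb', hr, hq, W2Lift.lift_p_sq ι, show (p : B) * b * ((p : B) * y) * r = (p : B) * p * (b * y * r) by ring,
      W2Lift.lift_p_sq ι]
    ring
  have h2 : (p : B) * (F' - F - y ^ p) = 0 := by
    have e1 : (p : B) * Φ y = (p : B) * y ^ p := W2Lift.lift_p_mul_congr h (by rw [hΦ.red, map_pow])
    have e2 : Φ b' = Φ b + (p : B) * Φ y := by rw [hb', map_add, map_mul, map_natCast]
    linear_combination (-1 : B) * hF' + hF + e2 + e1 - h1
  have h3 := (W2Lift.lift_p_mul_iff h _).1 h2
  rw [map_sub, map_sub, map_pow, sub_eq_zero, sub_eq_iff_eq_add] at h3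
  rw [h3, map_add, D_pow_p hΦ, zero_add]

/-- The divided differential. -/
noncomputable def dDiv (x : A) : Ω[A⁄k] :=
  x ^ (p - 1) • D k A x + D k A (π (exists_divided hΦ (hΦ.surj x).choose).choose)

theorem dDiv_eq {b F : B} (hF : Φ b = b ^ p + (p : B) * F) :
    dDiv hΦ (π b) = π b ^ (p - 1) • D k A (π b) + D k A (π F) := by
  rw [dDiv, D_divided_eq hΦ (hΦ.surj (π b)).choose_spec (exists_divided hΦ _).choose_spec hF]

theorem dDiv_add (x y : A) : dDiv hΦ (x + y) = dDiv hΦ x + dDiv hΦ y := by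
  obtain ⟨b, rfl⟩ := hΦ.surj x
  obtain ⟨c, rfl⟩ := hΦ.surj y
  obtain ⟨F, hF⟩ := exists_divided hΦ b
  obtain ⟨F', hF'⟩ := exists_divided hΦ c
  obtain ⟨G, hG, hG0, hG1⟩ := exists_carry p
  have hsum : Φ (b + c) = (b + c) ^ p + (p : B) * (F + F' - MvPolynomial.aeval ![b, c] G) := by
    have h := congrArg (MvPolynomial.aeval ![b, c]) hG
    simp only [map_pow, map_add, map_mul, map_natCast, MvPolynomial.aeval_X, Matrix.cons_val_zero,
      Matrix.cons_val_one] at h
    rw [map_add, hF, hF']
    linear_combination (-1 : B) * h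
  have hπ : π (MvPolynomial.aeval ![b, c] G) = MvPolynomial.aeval ![π b, π c] G := by
    rw [MvPolynomial.map_aeval]
    have : π.comp (algebraMap ℤ B) = algebraMap ℤ A := RingHom.ext_int _ _
    rw [this, MvPolynomial.aeval_def, MvPolynomial.coe_eval₂Hom]
    congr 1
    funext i
    fin_cases i <;> rfl
  rw [← map_add, dDiv_eq hΦ hsum, dDiv_eq hΦ hF, dDiv_eq hΦ hF', map_sub, map_add, map_sub, map_add, hπ,
    derivation_aeval (D k A) ![π b, π c] G, Fin.sum_univ_two, hG0, hG1]
  simp only [map_pow, map_add, map_sub, MvPolynomial.aeval_X, Matrix.cons_val_zero, Matrix.cons_val_one, sub_smul]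
  module

theorem dDiv_mul (x y : A) : dDiv hΦ (x * y) = x ^ p • dDiv hΦ y + y ^ p • dDiv hΦ x := by
  obtain ⟨b, rfl⟩ := hΦ.surj x
  obtain ⟨c, rfl⟩ := hΦ.surj y
  obtain ⟨F, hF⟩ := exists_divided hΦ b
  obtain ⟨F', hF'⟩ := exists_divided hΦ c
  have hsum : Φ (b * c) = (b * c) ^ p + (p : B) * (b ^ p * F' + c ^ p * F) := by
    rw [map_mul, hF, hF', mul_pow]
    linear_combination (F * F') * W2Lift.lift_p_sq ι
  have e1 : ∀ z : A, z ^ p = z ^ (p - 1) * z := fun z => (pow_sub_one_mul hp.out.ne_zero z).symm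
  rw [← map_mul, dDiv_eq hΦ hsum, dDiv_eq hΦ hF, dDiv_eq hΦ hF', map_add, map_mul π, map_mul π, map_mul π,
    map_pow, map_pow, map_add, Derivation.leibniz (D k A) (π b ^ p), Derivation.leibniz (D k A) (π c ^ p),
    D_pow_p hΦ, D_pow_p hΦ, Derivation.leibniz, mul_pow]
  simp only [smul_zero, add_zero, smul_add, smul_smul, e1]
  module

/-- `Ω` with scalars acting through Frobenius. -/
@[nolint unusedArguments]
def TwΩ (_hΦ : IsFLift p k A B ι π Φ) : Type u := Ω[A⁄k]

noncomputable instance : AddCommGroup (TwΩ hΦ) := inferInstanceAs (AddCommGroup Ω[A⁄k])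

/-- The Frobenius semilinear extension of the divided differential. -/
theorem exists_xi (σ : A →+* A) (hσ : ∀ a, σ a = a ^ p) :
    ∃ ξ : Ω[A⁄k] →ₛₗ[σ] Ω[A⁄k], ∀ x, ξ (D k A x) = dDiv hΦ x := by
  letI modA : Module A (TwΩ hΦ) := Module.compHom Ω[A⁄k] σ
  letI modk : Module k (TwΩ hΦ) := Module.compHom (TwΩ hΦ) (algebraMap k A)
  haveI : IsScalarTower k A (TwΩ hΦ) := IsScalarTower.of_algebraMap_smul fun _ _ => rfl
  have hsmul : ∀ (a : A) (z : Ω[A⁄k]), (a • (show TwΩ hΦ from z) : TwΩ hΦ) = (a ^ p • z : Ω[A⁄k]) := fun a z =>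
    congrArg (· • z) (hσ a)
  have hconst : ∀ c : k, dDiv hΦ (algebraMap k A c) = 0 := by
    intro c
    obtain ⟨e, rfl⟩ := surjective_frobenius k p c
    rw [frobenius_def, map_pow]
    have hpow : ∀ (z : A) (n : ℕ), 0 < n → dDiv hΦ (z ^ n) = n • (z ^ (n - 1)) ^ p • dDiv hΦ z := by
      intro z n hn
      induction n with
      | zero => omega
      | succ n ih =>
        rcases Nat.eq_zero_or_pos n with rfl | hn'
        · simp
        · rw [pow_succ, dDiv_mul, ih hn', Nat.add_sub_cancel, succ_nsmul, smul_comm (z ^ p) n, smul_smul,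
            ← mul_pow, ← pow_succ', Nat.sub_add_cancel hn', add_comm]
    rw [hpow _ p hp.out.pos, ← Nat.cast_smul_eq_nsmul A, natCast_p_eq_zero hΦ, zero_smul]
  let δ : Derivation k A (TwΩ hΦ) :=
    Derivation.mk'
      { toFun := fun x => (show TwΩ hΦ from dDiv hΦ x)
        map_add' := fun x y => dDiv_add hΦ x y
        map_smul' := fun c x => by
          show dDiv hΦ (c • x) = (algebraMap k A c) • (show TwΩ hΦ from dDiv hΦ x)
          rw [Algebra.smul_def, dDiv_mul, hconst, smul_zero, add_zero, hsmul] }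
      (fun x y => by
        show dDiv hΦ (x * y) = x • (show TwΩ hΦ from dDiv hΦ y) + y • (show TwΩ hΦ from dDiv hΦ x)
        rw [dDiv_mul, hsmul, hsmul]
        rfl)
  let L := δ.liftKaehlerDifferential
  exact ⟨{ toFun := fun z => L z, map_add' := fun a b => map_add L a b, map_smul' := fun c a => map_smul L c a },
    fun x => δ.liftKaehlerDifferential_comp_D x⟩

/-- An alternating map on a matrix combination. -/
theorem alternating_sum_smul {M N : Type*} [AddCommGroup M] [Module A M] [AddCommGroup N] [Module A N] {d : ℕ}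
    (g : M [⋀^Fin d]→ₗ[A] N) (C : Matrix (Fin d) (Fin d) A) (v : Fin d → M) :
    g (fun i => ∑ j, C i j • v j) = C.det • g v := by
  classical
  let L : (Fin d → A) →ₗ[A] M := Fintype.linearCombination A v
  let e := Pi.basisFun A (Fin d)
  have h : g.compLinearMap L = (LinearMap.toSpanSingleton A N (g v)).compAlternatingMap e.det := by
    refine e.ext_alternating fun w hw => ?_
    let σ : Equiv.Perm (Fin d) := Equiv.ofBijective w hw.bijective_of_finite
    have hw' : (fun i => e (w i)) = ⇑e ∘ σ := rfl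
    rw [hw', AlternatingMap.map_perm, AlternatingMap.map_perm]
    congr 1
    have he : (fun i => L (e i)) = v := by
      funext i
      simp [L, e, Fintype.linearCombination_apply, Pi.single_apply, ite_smul]
    show g (fun i => L (e i)) = e.det e • g v
    rw [he, Module.Basis.det_self, one_smul]
  have h2 := DFunLike.congr_fun h (fun i => C i)
  have h3 : e.det (fun i => C i) = C.det := by
    rw [Pi.basisFun_det_apply]
    rfl
  have h4 : (g.compLinearMap L) (fun i => C i) = g (fun i => ∑ j, C i j • v j) := by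
    simp [L, Fintype.linearCombination_apply]
  rw [← h4, h2]
  show e.det (fun i => C i) • g v = _
  rw [h3]

end Groth.Agent.Frob15
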