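import Groth.Prelude.Def_Frob
import Groth.Agent.Frob15.FrobLiftForms
import Mathlib.AlgebraicGeometry.Morphisms.Flat
import Mathlib.AlgebraicGeometry.Morphisms.ClosedImmersion
import Mathlib.FieldTheory.IsAlgClosed.Basic

/-!
# Lifts of Frobenius on schemes, chart by chart

For a lifting `(Xl, Fl)` of `(X, Frobenius)` over `W₂(k)` and an affine open `W` of `Xl`, the ring of `W` is a
lifting of the ring of `i ⁻¹ W`.
-/

set_option autoImplicit false
set_option backward.isDefEq.respectTransparency false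

universe u

open CategoryTheory CategoryTheory.Limits AlgebraicGeometry TopologicalSpace

namespace Groth.Agent.Frob15

variable {p : ℕ} [hp : Fact p.Prime] {k : Type u} [Field k] [CharP k p] [PerfectRing k p]
  {X : Scheme.{u}} [FrobSch.IsCharP X p] {f : X ⟶ Spec (CommRingCat.of k)}
  {Xl : Scheme.{u}} {g : Xl ⟶ Spec (CommRingCat.of (FrobAlg.W2 p k))}
  {i : X ⟶ Xl} {Fl : Xl ⟶ Xl}

/-- The closed immersion `i` is surjective. -/
theorem isClosedImmersion_and_surjective
    (hsq : IsPullback i f g (Spec.map (CommRingCat.ofHom (FrobAlg.res p k)))) :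
    IsClosedImmersion i ∧ AlgebraicGeometry.Surjective i := by
  have hsurj : Function.Surjective (FrobAlg.res p k) := W2Lift.res_surjective
  have hnil : RingHom.ker (FrobAlg.res p k) ≤ nilradical (FrobAlg.W2 p k) := fun x hx => by
    obtain ⟨c, rfl⟩ := (W2Lift.res_eq_zero_iff_dvd x).1 hx
    exact mem_nilradical.2 ⟨2, by rw [mul_pow, pow_two, W2Lift.p_mul_p, zero_mul]⟩
  have hc : IsClosedImmersion (Spec.map (CommRingCat.ofHom (FrobAlg.res p k))) :=
    IsClosedImmersion.spec_of_surjective _ hsurj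
  have hs : AlgebraicGeometry.Surjective (Spec.map (CommRingCat.ofHom (FrobAlg.res p k))) := by
    refine ⟨fun q => ?_⟩
    have hq : q ∈ PrimeSpectrum.zeroLocus (RingHom.ker (FrobAlg.res p k) : Set (FrobAlg.W2 p k)) :=
      fun x hx => q.2.radical_le_iff.2 bot_le (hnil hx)
    rw [← range_comap_of_surjective _ _ hsurj] at hq
    exact hq
  exact ⟨MorphismProperty.of_isPullback (P := @IsClosedImmersion) hsq.flip hc,
    MorphismProperty.of_isPullback (P := @AlgebraicGeometry.Surjective) hsq.flip hs⟩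

variable (hsq : IsPullback i f g (Spec.map (CommRingCat.ofHom (FrobAlg.res p k))))
  (hF : i ≫ Fl = FrobSch.frob X p ≫ i)

include hsq hF in
/-- The lift of Frobenius preserves every open. -/
theorem preimage_eq (W : Xl.Opens) : Fl ⁻¹ᵁ W = W := by
  obtain ⟨-, hs⟩ := isClosedImmersion_and_surjective hsq
  ext z
  obtain ⟨x, rfl⟩ := hs.surj z
  have h : Fl (i x) = i x := by
    show (i ≫ Fl) x = i x
    rw [hF]
    rfl
  show Fl (i x) ∈ W ↔ i x ∈ W
  rw [h]

/-- The endomorphism of the ring of an open given by the lift of Frobenius. -/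
noncomputable def phiRing (W : Xl.Opens) : Γ(Xl, W) →+* Γ(Xl, W) :=
  (Fl.appLE W W (preimage_eq hsq hF W).ge).hom

theorem res_phiRing {W W' : Xl.Opens} (h : W' ≤ W) (b : Γ(Xl, W)) :
    Xl.presheaf.map (homOfLE h).op (phiRing hsq hF W b) = phiRing hsq hF W' (Xl.presheaf.map (homOfLE h).op b) := by
  show (Fl.appLE W W _ ≫ Xl.presheaf.map (homOfLE h).op) b = (Xl.presheaf.map (homOfLE h).op ≫ Fl.appLE W' W' _) b
  rw [Scheme.Hom.appLE_map, Scheme.Hom.map_appLE]

/-- The structure map of the constants. -/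
noncomputable def strMap (f : X ⟶ Spec (CommRingCat.of k)) (V : X.Opens) : k →+* Γ(X, V) :=
  ((Scheme.ΓSpecIso (CommRingCat.of k)).inv ≫ f.appLE ⊤ V le_top).hom

/-- The structure map of `W₂(k)`. -/
noncomputable def strMapW (g : Xl ⟶ Spec (CommRingCat.of (FrobAlg.W2 p k))) (W : Xl.Opens) :
    FrobAlg.W2 p k →+* Γ(Xl, W) :=
  ((Scheme.ΓSpecIso (CommRingCat.of (FrobAlg.W2 p k))).inv ≫ g.appLE ⊤ W le_top).hom

include hsq hF in
/-- The ring of an affine open of the lift is a lift with Frobenius. -/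
theorem isFLift [Flat g] {W : Xl.Opens} (hW : IsAffineOpen W) :
    @IsFLift p _ k _ Γ(X, i ⁻¹ᵁ W) _ (strMap f (i ⁻¹ᵁ W)).toAlgebra Γ(Xl, W) _ (strMapW g W)
      (i.app W).hom (phiRing hsq hF W) := by
  letI := (strMap f (i ⁻¹ᵁ W)).toAlgebra
  obtain ⟨hc, hs⟩ := isClosedImmersion_and_surjective hsq
  have hcomm : (i.app W).hom.comp (strMapW g W) = (algebraMap k Γ(X, i ⁻¹ᵁ W)).comp (FrobAlg.res p k) := by
    have h : ((Scheme.ΓSpecIso (CommRingCat.of (FrobAlg.W2 p k))).inv ≫ g.appLE ⊤ W le_top) ≫ i.app W =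
        CommRingCat.ofHom (FrobAlg.res p k) ≫ (Scheme.ΓSpecIso (CommRingCat.of k)).inv ≫
          f.appLE ⊤ (i ⁻¹ᵁ W) le_top := by
      rw [Category.assoc, i.app_eq_appLE, Scheme.Hom.appLE_comp_appLE, Scheme.ΓSpecIso_inv_naturality_assoc]
      simp only [hsq.w]
      rw [Scheme.Hom.comp_appLE]
      rfl
    exact congrArg CommRingCat.Hom.hom h
  have hflat : (strMapW g W).Flat := by
    refine RingHom.Flat.comp ?_ (g.flat_appLE (isAffineOpen_top _) hW le_top)
    exact RingHom.Flat.of_bijective (ConcreteCategory.bijective_of_isIso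
      (Scheme.ΓSpecIso (CommRingCat.of (FrobAlg.W2 p k))).inv)
  have hk : ∀ b : Γ(Xl, W), i.app W b = 0 → (p : Γ(Xl, W)) ∣ b := by
    intro b hb
    let J : Ideal Γ(Xl, W) := Ideal.span {(p : Γ(Xl, W))}
    let mk : Γ(Xl, W) ⟶ CommRingCat.of (Γ(Xl, W) ⧸ J) := CommRingCat.ofHom (Ideal.Quotient.mk J)
    have hker : RingHom.ker (FrobAlg.res p k) ≤ RingHom.ker ((Ideal.Quotient.mk J).comp (strMapW g W)) := by
      intro x hx
      obtain ⟨c, rfl⟩ := (W2Lift.res_eq_zero_iff_dvd x).1 hx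
      refine RingHom.mem_ker.2 ?_
      show Ideal.Quotient.mk J (strMapW g W ((p : FrobAlg.W2 p k) * c)) = 0
      rw [Ideal.Quotient.eq_zero_iff_mem, map_mul, map_natCast]
      exact Ideal.mem_span_singleton.2 (dvd_mul_right _ _)
    let c : k →+* Γ(Xl, W) ⧸ J := RingHom.liftOfSurjective (FrobAlg.res p k) W2Lift.res_surjective ⟨_, hker⟩
    have hc' : CommRingCat.ofHom (FrobAlg.res p k) ≫ CommRingCat.ofHom c =
        CommRingCat.ofHom (strMapW g W) ≫ mk := by
      refine CommRingCat.hom_ext ?_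
      exact RingHom.liftOfRightInverse_comp (FrobAlg.res p k) _
        (Function.rightInverse_surjInv W2Lift.res_surjective) ⟨_, hker⟩
    let l : Spec (CommRingCat.of (Γ(Xl, W) ⧸ J)) ⟶ X :=
      hsq.lift (Spec.map mk ≫ hW.fromSpec) (Spec.map (CommRingCat.ofHom c)) (by
        rw [← Spec.map_comp, hc', Spec.map_comp, Category.assoc]
        congr 1
        have h1 := (isAffineOpen_top (Spec (CommRingCat.of (FrobAlg.W2 p k))))
        rw [← IsAffineOpen.SpecMap_appLE_fromSpec g h1 hW le_top, IsAffineOpen.fromSpec_top,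
          Scheme.isoSpec_Spec_inv, ← Spec.map_comp]
        rfl)
    have hl : l ≫ i = Spec.map mk ≫ hW.fromSpec := hsq.lift_fst _ _ _
    have e1 : (⊤ : (Spec (CommRingCat.of (Γ(Xl, W) ⧸ J))).Opens) ≤ (Spec.map mk) ⁻¹ᵁ (hW.fromSpec ⁻¹ᵁ W) := by
      rw [hW.fromSpec_preimage_self]
      exact le_of_eq rfl
    have e2 : (⊤ : (Spec (CommRingCat.of (Γ(Xl, W) ⧸ J))).Opens) ≤ l ⁻¹ᵁ (i ⁻¹ᵁ W) := by
      rw [← Scheme.Hom.comp_preimage, hl]
      exact e1
    have h := congrArg (fun z => l.appLE (i ⁻¹ᵁ W) ⊤ e2 z) hb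
    simp only [map_zero] at h
    have h2 : (i.app W ≫ l.appLE (i ⁻¹ᵁ W) ⊤ e2) b = 0 := h
    rw [← Scheme.Hom.comp_appLE] at h2
    simp only [hl] at h2
    have e3 : (Spec.map mk ≫ hW.fromSpec).appLE W ⊤ e1 =
        mk ≫ (Scheme.ΓSpecIso (CommRingCat.of (Γ(Xl, W) ⧸ J))).inv := by
      rw [Scheme.Hom.comp_appLE, hW.fromSpec_app_self, Category.assoc, Scheme.Hom.map_appLE,
        Scheme.ΓSpecIso_inv_naturality, Scheme.Hom.appTop, Scheme.Hom.app_eq_appLE]
      rfl
    have h3 : Ideal.Quotient.mk J b = 0 := by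
      refine (ConcreteCategory.bijective_of_isIso
        (Scheme.ΓSpecIso (CommRingCat.of (Γ(Xl, W) ⧸ J))).inv).1 ?_
      refine (ConcreteCategory.congr_hom e3.symm b).trans ?_
      rw [map_zero]
      exact h2
    rwa [Ideal.Quotient.eq_zero_iff_mem, Ideal.mem_span_singleton] at h3
  refine ⟨W2Lift.isLift_of _ _ (i.app_surjective W hW) hcomm hk fun b hb => ?_, fun b => ?_⟩
  · letI : Algebra (FrobAlg.W2 p k) Γ(Xl, W) := (strMapW g W).toAlgebra
    haveI : Module.Flat (FrobAlg.W2 p k) Γ(Xl, W) := hflat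
    obtain ⟨y, hy⟩ := W2Lift.mem_span_p_of_flat (p := p) (k := k) (M := Γ(Xl, W)) (x := b) (by
      rw [Algebra.smul_def, map_natCast]; exact hb)
    rw [hy, Algebra.smul_def, map_natCast, map_mul, map_natCast, FrobSch.natCast_eq_zero_app, zero_mul]
  · show i.app W (Fl.appLE W W (preimage_eq hsq hF W).ge b) = i.app W b ^ p
    have e : i ⁻¹ᵁ W ≤ (i ≫ Fl) ⁻¹ᵁ W := by
      rw [Scheme.Hom.comp_preimage, preimage_eq hsq hF W]
    have h1 : Fl.appLE W W (preimage_eq hsq hF W).ge ≫ i.app W = (i ≫ Fl).appLE W (i ⁻¹ᵁ W) e := by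
      rw [i.app_eq_appLE, Scheme.Hom.appLE_comp_appLE]
    have h2 : (i ≫ Fl).appLE W (i ⁻¹ᵁ W) e = i.app W ≫ (FrobSch.frob X p).app (i ⁻¹ᵁ W) := by
      simp only [hF]
      rw [Scheme.Hom.comp_appLE]
      simp [Scheme.Hom.appLE]
      erw [X.presheaf.map_id, Category.comp_id]
    exact ConcreteCategory.congr_hom (h1.trans h2) b

end Groth.Agent.Frob15
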