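import Groth.Prelude.Def_W4c1liftfrobW2
import Groth.Agent.WeilLib.LogDeriv
import Mathlib.RingTheory.Kaehler.Basic
import Mathlib.RingTheory.Derivation.Lie
import Mathlib.Algebra.CharP.Lemmas
import Mathlib.NumberTheory.Wilson
import Mathlib.Data.Nat.Choose.Sum
import Mathlib.Data.Nat.Choose.Dvd

/-!
# The determinant of the Jacobian of a Frobenius lift

For commuting derivations `δ j` with `δ j ^ p = 0` the determinant of `diag(t_i ^ (p-1)) + (δ_j f_i)` agrees with
`∏ t_i ^ (p-1)` modulo the images of the derivations, hence is nonzero.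
-/

set_option autoImplicit false

universe u v

namespace Groth.Agent.Frob15

variable {k : Type u} {A : Type v} [CommRing k] [CommRing A] [Algebra k A]

/-- The sum of a symmetric times an alternating function vanishes. -/
theorem sum_symm_mul_alt {n : Type*} [Fintype n] (H G : n → n → A) (hH : ∀ i j, H i j = H j i)
    (hG0 : ∀ i, G i i = 0) (hG : ∀ i j, i ≠ j → G j i = -G i j) : ∑ i, ∑ j, H i j * G i j = 0 := by
  classical
  rw [← Finset.sum_product' (f := fun i j => H i j * G i j)]
  refine Finset.sum_involution (fun a _ => a.swap) (fun a _ => ?_) (fun a _ ha => ?_)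
    (fun a _ => Finset.mem_product.2 ⟨Finset.mem_univ _, Finset.mem_univ _⟩) (fun a _ => Prod.swap_swap a)
  · obtain ⟨i, j⟩ := a
    rcases eq_or_ne i j with rfl | hij
    · simp [hG0]
    · simp only [Prod.swap_prod_mk, hG i j hij, hH j i]
      ring
  · obtain ⟨i, j⟩ := a
    intro h
    simp only [Prod.swap_prod_mk, Prod.mk.injEq] at h
    obtain ⟨rfl, -⟩ := h
    exact ha (by simp [hG0])

variable {n : Type*} [Fintype n] [DecidableEq n]

/-- A derivation applied to a determinant, row by row. -/
theorem derivation_det_row (D : Derivation k A A) (M : Matrix n n A) :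
    D M.det = ∑ i, (M.updateRow i fun c => D (M i c)).det := by
  rw [WeilLib.derivation_det D M, Matrix.trace]
  refine Finset.sum_congr rfl fun i _ => ?_
  rw [Matrix.diag_apply, Matrix.mul_apply, Matrix.det_eq_sum_mul_adjugate_row _ i]
  refine Finset.sum_congr rfl fun c _ => ?_
  rw [Matrix.updateRow_self, Matrix.map_apply]
  congr 1
  simp [Matrix.adjugate_apply]

variable (δ : n → Derivation k A A) (hδ : ∀ i j x, δ i (δ j x) = δ j (δ i x))

/-- The span of the images of the derivations. -/
def derImage : AddSubgroup A := ⨆ j, (δ j).toLinearMap.toAddMonoidHom.range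

omit [Fintype n] [DecidableEq n] in
theorem apply_mem_derImage (j : n) (x : A) : δ j x ∈ derImage δ :=
  AddSubgroup.mem_iSup_of_mem j ⟨x, rfl⟩

/-- A determinant with one exact row and all other rows closed lies in the images. -/
theorem det_updateRow_grad_mem (M : Matrix n n A) (i₀ : n) (f : A)
    (hM : ∀ i, i ≠ i₀ → ∀ a b, δ a (M i b) = δ b (M i a)) :
    (M.updateRow i₀ fun j => δ j f).det ∈ derImage δ := by
  classical
  set C : n → A := fun j => (M.updateRow i₀ (Pi.single j 1)).det with hC
  have hexp : (M.updateRow i₀ fun j => δ j f).det = ∑ j, δ j f * C j := by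
    rw [Matrix.det_eq_sum_mul_adjugate_row _ i₀]
    refine Finset.sum_congr rfl fun j _ => ?_
    rw [Matrix.updateRow_self, Matrix.adjugate_apply]
    simp [hC]
  have hdiv : ∑ j, δ j (C j) = 0 := by
    simp only [hC, derivation_det_row]
    rw [Finset.sum_comm]
    refine Finset.sum_eq_zero fun i _ => ?_
    rcases eq_or_ne i i₀ with rfl | hi
    · refine Finset.sum_eq_zero fun j _ => Matrix.det_eq_zero_of_row_eq_zero i fun c => ?_
      rw [Matrix.updateRow_self, Matrix.updateRow_self, Pi.single_apply]
      split_ifs <;> simp
    · have hrow : ∀ j, ((M.updateRow i₀ (Pi.single j 1)).updateRow i fun c =>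
          δ j ((M.updateRow i₀ (Pi.single j 1)) i c)).det =
          ∑ c, δ j (M i c) * ((M.updateRow i₀ (Pi.single j 1)).updateRow i (Pi.single c 1)).det := by
        intro j
        rw [Matrix.det_eq_sum_mul_adjugate_row _ i]
        refine Finset.sum_congr rfl fun c _ => ?_
        rw [Matrix.updateRow_self, Matrix.updateRow_ne hi, Matrix.adjugate_apply]
        simp
      simp only [hrow]
      refine sum_symm_mul_alt _ _ (fun a b => hM i hi a b) (fun a => ?_) (fun a b _ => ?_)
      · refine Matrix.det_zero_of_row_eq hi ?_
        rw [Matrix.updateRow_self, Matrix.updateRow_ne (Ne.symm hi), Matrix.updateRow_self]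
      · have : ((M.updateRow i₀ (Pi.single b 1)).updateRow i (Pi.single a 1)) =
            ((M.updateRow i₀ (Pi.single a 1)).updateRow i (Pi.single b 1)).submatrix (Equiv.swap i i₀) id := by
          ext r c
          rcases eq_or_ne r i with rfl | hr
          · simp [Matrix.updateRow_ne (Ne.symm hi)]
          · rcases eq_or_ne r i₀ with rfl | hr'
            · simp [Matrix.updateRow_ne hr]
            · simp [Matrix.updateRow_ne hr, Matrix.updateRow_ne hr', Equiv.swap_apply_of_ne_of_ne hr hr']
        rw [this, Matrix.det_permute, Equiv.Perm.sign_swap hi]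
        simp
  have hsum : ∑ j, δ j (f * C j) = ∑ j, δ j f * C j := by
    simp only [Derivation.leibniz, smul_eq_mul, Finset.sum_add_distrib, ← Finset.mul_sum, hdiv, mul_zero,
      zero_add]
    exact Finset.sum_congr rfl fun j _ => mul_comm _ _
  rw [hexp, ← hsum]
  exact sum_mem fun j _ => apply_mem_derImage δ j _

include hδ in
/-- `det (diag a + (δ_j f_i))` is `∏ a` modulo images of the derivations. -/
theorem det_diag_add_grad_sub_mem (a f : n → A) (ha : ∀ i j, i ≠ j → δ j (a i) = 0) :
    (Matrix.of fun i j => (if i = j then a i else 0) + δ j (f i)).det - ∏ i, a i ∈ derImage δ := by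
  classical
  let Ms : Finset n → Matrix n n A := fun s =>
    Matrix.of fun i j => (if i = j then a i else 0) + if i ∈ s then δ j (f i) else 0
  suffices H : ∀ s, (Ms s).det - ∏ i, a i ∈ derImage δ by
    have := H Finset.univ
    simpa [Ms] using this
  intro s
  induction s using Finset.induction with
  | empty =>
    have : Ms ∅ = Matrix.diagonal a := by
      ext i j; simp [Ms, Matrix.diagonal_apply]
    simp [this]
  | @insert i₀ s hi₀ ih =>
    have e1 : Ms (insert i₀ s) = (Ms s).updateRow i₀ (Ms s i₀ + fun j => δ j (f i₀)) := by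
      ext i j
      rcases eq_or_ne i i₀ with rfl | hi
      · simp [Ms, hi₀]
      · simp [Ms, Matrix.updateRow_ne hi, hi]
    rw [e1, Matrix.det_updateRow_add, Matrix.updateRow_eq_self, add_sub_right_comm]
    refine add_mem ih (det_updateRow_grad_mem δ _ i₀ (f i₀) fun i _ c d => ?_)
    have h0 : ∀ c d, δ c (if i = d then a i else 0) = δ d (if i = c then a i else 0) := fun c d => by
      rcases eq_or_ne c d with rfl | hcd
      · rfl
      · split_ifs with h1 h2 h2
        · exact absurd (h2.symm.trans h1) hcd
        · simp [ha i c h2]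
        · simp [ha i d h1]
        · simp
    simp only [Ms, Matrix.of_apply, map_add, h0 c d]
    split_ifs <;> simp [hδ c d]

omit [Fintype n] [DecidableEq n] in
/-- The Leibniz formula for iterates of a derivation. -/
theorem iterate_leibniz (D : Derivation k A A) (m : ℕ) (x y : A) :
    D^[m] (x * y) = ∑ ij ∈ Finset.antidiagonal m, m.choose ij.1 • (D^[ij.1] x * D^[ij.2] y) := by
  induction m with
  | zero => simp
  | succ m ih =>
    rw [Finset.sum_antidiagonal_choose_succ_nsmul (fun i j => D^[i] x * D^[j] y) m, Function.iterate_succ_apply', ih,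
      map_sum, ← Finset.sum_add_distrib]
    refine Finset.sum_congr rfl fun ij hij => ?_
    rw [Function.iterate_succ_apply', Function.iterate_succ_apply', Derivation.map_smul_of_tower,
      Derivation.leibniz, smul_add, smul_eq_mul, smul_eq_mul, mul_comm (D^[ij.2] y)]
    have hs : m.choose ij.2 = m.choose ij.1 := by
      rw [← Finset.mem_antidiagonal.1 hij]; exact Nat.choose_symm_add.symm
    rw [hs]

omit [Fintype n] [DecidableEq n] in
/-- In characteristic `p` the `p`-th iterate of a derivation satisfies the Leibniz rule. -/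
theorem iterate_char_leibniz (p : ℕ) [hp : Fact p.Prime] [CharP A p] (D : Derivation k A A) (x y : A) :
    D^[p] (x * y) = x * D^[p] y + y * D^[p] x := by
  rw [iterate_leibniz, Finset.Nat.sum_antidiagonal_eq_sum_range_succ (fun i j => p.choose i • (D^[i] x * D^[j] y)) p,
    Finset.sum_range_succ, Finset.sum_eq_single 0]
  · simp [mul_comm]
  · intro i hi h0
    rw [nsmul_eq_mul, (CharP.cast_eq_zero_iff A p _).2 (Nat.Prime.dvd_choose_self hp.out h0 (Finset.mem_range.1 hi)), zero_mul]
  · intro h
    exact absurd (Finset.mem_range.2 hp.out.pos) h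

/-- The determinant of the Jacobian of a Frobenius lift is nonzero. -/
theorem det_ne_zero (p : ℕ) [hp : Fact p.Prime] [CharP A p] [Nontrivial A] {n : ℕ} (t : Fin n → A)
    (b : Module.Basis (Fin n) A (KaehlerDifferential k A)) (hb : ∀ i, b i = KaehlerDifferential.D k A (t i))
    (f : Fin n → A) :
    (Matrix.of fun i j => (if i = j then t i ^ (p - 1) else 0) +
      b.coord j (KaehlerDifferential.D k A (f i))).det ≠ 0 := by
  classical
  let δ : Fin n → Derivation k A A := fun j => (b.coord j).compDer (KaehlerDifferential.D k A)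
  have hδt : ∀ j i, δ j (t i) = if i = j then 1 else 0 := fun j i => by
    show b.coord j (KaehlerDifferential.D k A (t i)) = _
    rw [← hb i, Module.Basis.coord_apply, b.repr_self, Finsupp.single_apply]
  have hext : ∀ D D' : Derivation k A A, (∀ i, D (t i) = D' (t i)) → D = D' := fun D D' h => by
    have : D.liftKaehlerDifferential = D'.liftKaehlerDifferential := b.ext fun i => by
      rw [hb, Derivation.liftKaehlerDifferential_comp_D, Derivation.liftKaehlerDifferential_comp_D, h i]
    rw [← D.liftKaehlerDifferential_comp, ← D'.liftKaehlerDifferential_comp, this]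
  have hcomm : ∀ i j x, δ i (δ j x) = δ j (δ i x) := fun i j x => by
    have h : ⁅δ i, δ j⁆ = 0 := hext _ _ fun l => by
      rw [Derivation.commutator_apply, hδt, hδt]
      split_ifs <;> simp
    exact sub_eq_zero.1 ((Derivation.commutator_apply x).symm.trans (DFunLike.congr_fun h x))
  have hpow : ∀ j x, (δ j)^[p] x = 0 := fun j x => by
    let L : A →ₗ[k] A := (δ j).toLinearMap ^ p
    have hL : ∀ y, L y = (δ j)^[p] y := fun y => Module.End.pow_apply _ _ _
    let Dp : Derivation k A A := Derivation.mk' L fun a c => by
      simp only [hL, smul_eq_mul, iterate_char_leibniz]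
    have h : Dp = 0 := hext _ _ fun i => by
      show L (t i) = 0
      rw [hL]
      obtain ⟨q, hq⟩ := Nat.exists_eq_add_of_le hp.out.two_le
      rw [hq, Nat.add_comm, Function.iterate_add_apply]
      have : (δ j)^[2] (t i) = 0 := by
        show δ j (δ j (t i)) = 0
        rw [hδt]; split_ifs <;> simp
      rw [this, iterate_map_zero]
    exact (hL x).symm.trans (DFunLike.congr_fun h x)
  let Cop : List (Fin n) → A → A := fun l x => l.foldr (fun j y => (δ j)^[p - 1] y) x
  have hadd : ∀ l x y, Cop l (x + y) = Cop l x + Cop l y := fun l => by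
    induction l with
    | nil => simp [Cop]
    | cons j l ih =>
      intro x y
      show (δ j)^[p - 1] (Cop l (x + y)) = _
      rw [ih, iterate_map_add]
      rfl
  have hd : ∀ l j x, Cop l (δ j x) = δ j (Cop l x) := fun l j => by
    induction l with
    | nil => simp [Cop]
    | cons i l ih =>
      intro x
      show (δ i)^[p - 1] (Cop l (δ j x)) = δ j ((δ i)^[p - 1] (Cop l x))
      rw [ih]
      exact ((Function.Commute.iterate_right (fun z => hcomm j i z) (p - 1)) (Cop l x)).symm
  have hkill : ∀ l j, j ∈ l → ∀ x, Cop l (δ j x) = 0 := fun l j => by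
    induction l with
    | nil => simp
    | cons i l ih =>
      intro hj x
      show (δ i)^[p - 1] (Cop l (δ j x)) = 0
      rcases List.mem_cons.1 hj with rfl | hj
      · rw [hd, ← Function.iterate_succ_apply]
        have : (p - 1).succ = p := Nat.sub_add_cancel hp.out.one_le
        rw [this, hpow]
      · rw [ih hj, iterate_map_zero]
  intro h0
  have hmem := det_diag_add_grad_sub_mem δ hcomm (fun i => t i ^ (p - 1)) f fun i j hij => by
    rw [Derivation.leibniz_pow, hδt, if_neg hij]; simp
  rw [show (Matrix.of fun i j => (if i = j then (fun i => t i ^ (p - 1)) i else 0) + δ j (f i)) =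
    Matrix.of fun i j => (if i = j then t i ^ (p - 1) else 0) + b.coord j (KaehlerDifferential.D k A (f i)) from rfl,
    h0] at hmem
  have hzero : Cop (List.finRange n) (0 - ∏ i, t i ^ (p - 1)) = 0 := by
    have hCz : Cop (List.finRange n) 0 = 0 := by
      have := hadd (List.finRange n) 0 0
      rw [add_zero] at this
      exact left_eq_add.1 this
    refine AddSubgroup.iSup_induction (C := fun x => Cop (List.finRange n) x = 0) _ hmem ?_ hCz ?_
    · rintro j _ ⟨x, rfl⟩
      exact hkill _ j (List.mem_finRange j) x
    · intro x y hx hy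
      rw [hadd, hx, hy, add_zero]
  have hδprod : ∀ (j : Fin n) (l : List (Fin n)), j ∉ l → δ j (l.map fun i => t i ^ (p - 1)).prod = 0 := by
    intro j l
    induction l with
    | nil => simp
    | cons i l ih =>
      intro hj
      rw [List.mem_cons, not_or] at hj
      rw [List.map_cons, List.prod_cons, Derivation.leibniz, ih hj.2, Derivation.leibniz_pow, hδt,
        if_neg (Ne.symm hj.1)]
      simp
  have hit : ∀ (j : Fin n) (c : A), δ j c = 0 → ∀ m e : ℕ,
      (δ j)^[m] (t j ^ e * c) = (e.descFactorial m : A) * (t j ^ (e - m) * c) := by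
    intro j c hc m
    induction m with
    | zero => simp
    | succ m ih =>
      intro e
      rw [Function.iterate_succ_apply', ih, Derivation.leibniz, Derivation.leibniz, Derivation.map_natCast, hc,
        Derivation.leibniz_pow, hδt, if_pos rfl, Nat.descFactorial_succ, Nat.sub_sub]
      simp only [smul_zero, zero_add, add_zero, smul_eq_mul, nsmul_eq_mul, mul_one, Nat.cast_mul]
      ring
  have hval : ∀ l : List (Fin n), l.Nodup → ∀ c : A, (∀ j ∈ l, δ j c = 0) →
      Cop l ((l.map fun i => t i ^ (p - 1)).prod * c) = ((p - 1).factorial : A) ^ l.length * c := by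
    intro l
    induction l with
    | nil => simp [Cop]
    | cons i l ih =>
      intro hl c hc
      rw [List.nodup_cons] at hl
      show (δ i)^[p - 1] (Cop l _) = _
      rw [List.map_cons, List.prod_cons, mul_comm (t i ^ (p - 1)), mul_assoc, ih hl.2 _ fun j hj => by
        rw [Derivation.leibniz, hc j (List.mem_cons_of_mem _ hj), Derivation.leibniz_pow, hδt,
          if_neg (fun h : i = j => hl.1 (h ▸ hj))]
        simp]
      rw [show ((p - 1).factorial : A) ^ l.length * (t i ^ (p - 1) * c) =
          t i ^ (p - 1) * (((p - 1).factorial : A) ^ l.length * c) by ring, hit i _ ?_ (p - 1) (p - 1),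
        Nat.descFactorial_self, Nat.sub_self, pow_zero, one_mul, List.length_cons, pow_succ]
      · ring
      · rw [Derivation.leibniz, hc i (List.mem_cons_self ..), Derivation.leibniz_pow, Derivation.map_natCast]
        simp
  have h1 := hval (List.finRange n) (List.nodup_finRange n) 1 fun j _ => Derivation.map_one_eq_zero _
  rw [mul_one, mul_one, ← List.ofFn_eq_map, List.prod_ofFn] at h1
  have hu : IsUnit ((p - 1).factorial : A) := by
    have h0 : ((p - 1).factorial : ZMod p) ≠ 0 := by
      rw [ZMod.wilsons_lemma]; exact neg_ne_zero.2 one_ne_zero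
    have h := (Ne.isUnit h0).map (ZMod.castHom (dvd_refl p) A)
    rwa [map_natCast] at h
  have hsub : Cop (List.finRange n) (0 - ∏ i, t i ^ (p - 1)) + Cop (List.finRange n) (∏ i, t i ^ (p - 1)) = 0 := by
    rw [← hadd, sub_add_cancel]
    have := hadd (List.finRange n) 0 0
    rw [add_zero] at this
    exact left_eq_add.1 this
  rw [hzero, zero_add, h1] at hsub
  exact (hu.pow _).ne_zero hsub

end Groth.Agent.Frob15
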