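import Groth.Agent.Frob15.FrobLiftForms
import Groth.Agent.Frob15.JacobianDet
import Mathlib.RingTheory.Etale.Kaehler
import Mathlib.RingTheory.Etale.Basic
import Mathlib.LinearAlgebra.ExteriorPower.Basic

/-!
# Frobenius lifts on top forms

The value of the divided differential on a top form given by coordinates is the Jacobian determinant, and two
coordinate systems are compatible.
-/

set_option autoImplicit false
set_option linter.unusedSectionVars false

universe u v w

namespace Groth.Agent.Frob15

open KaehlerDifferential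

section Ext

variable {A : Type u} [CommRing A] {M : Type v} [AddCommGroup M] [Module A M] {d : ℕ}

/-- A basis identifies the top exterior power with the ring. -/
theorem bijective_smul_ιMulti (b : Module.Basis (Fin d) A M) :
    Function.Bijective fun r : A => r • exteriorPower.ιMulti A d b := by
  classical
  let L : ⋀[A]^d M →ₗ[A] A := exteriorPower.alternatingMapLinearEquiv b.det
  have hL : ∀ w, L (exteriorPower.ιMulti A d w) = b.det w := fun w =>
    exteriorPower.alternatingMapLinearEquiv_apply_ιMulti _ _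
  have hw : ∀ w, exteriorPower.ιMulti A d w = b.det w • exteriorPower.ιMulti A d b := fun w => by
    have h := alternating_sum_smul (exteriorPower.ιMulti A d) (Matrix.of fun i j => b.repr (w i) j) b
    simp only [Matrix.of_apply, b.sum_repr] at h
    rw [h, b.det_apply, ← Matrix.det_transpose]
    rfl
  refine ⟨fun r r' h => ?_, fun z => ⟨L z, ?_⟩⟩
  · have h2 := congrArg L h
    simpa [hL, Module.Basis.det_self] using h2
  · have hz : z ∈ Submodule.span A (Set.range (exteriorPower.ιMulti A d (M := M))) := by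
      rw [exteriorPower.ιMulti_span]; trivial
    induction hz using Submodule.span_induction with
    | mem x hx => obtain ⟨w, rfl⟩ := hx; simp only [hL, ← hw w]
    | zero => simp
    | add x y _ _ hx hy => simp only [map_add, add_smul] at hx hy ⊢; rw [hx, hy]
    | smul a x _ hx => simp only [map_smul, smul_eq_mul, mul_smul] at hx ⊢; rw [hx]

end Ext

section Etale

variable {k : Type u} {A B : Type v} [CommRing k] [CommRing A] [CommRing B] [Algebra k A] [Algebra k B]
  [Algebra A B] [IsScalarTower k A B] [Algebra.FormallyEtale A B]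

/-- Coordinates restrict along formally etale maps. -/
theorem exists_basis_restrict {d : ℕ} (t : Fin d → A) (b : Module.Basis (Fin d) A Ω[A⁄k])
    (hb : ∀ i, b i = D k A (t i)) :
    ∃ b' : Module.Basis (Fin d) B Ω[B⁄k], ∀ i, b' i = D k B (algebraMap A B (t i)) :=
  ⟨(b.baseChange B).map (tensorKaehlerEquivOfFormallyEtale k A B), fun i => by
    rw [Module.Basis.map_apply, Module.Basis.baseChange_apply, hb, ← LinearEquiv.eq_symm_apply,
      tensorKaehlerEquivOfFormallyEtale_symm_D_algebraMap]⟩

end Etale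

section Compat

variable {p : ℕ} [hp : Fact p.Prime] {k : Type u} [Field k] [CharP k p] [PerfectRing k p]
  {A : Type u} [CommRing A] [Algebra k A] {B : Type u} [CommRing B] {ι : FrobAlg.W2 p k →+* B}
  {π : B →+* A} {Φ : B →+* B} {d : ℕ}

/-- `(t, M)` is a coordinate system with Jacobian matrix `M` of the divided lift of Frobenius. -/
def IsJac (hΦ : IsFLift p k A B ι π Φ) (t : Fin d → A) (M : Matrix (Fin d) (Fin d) A) : Prop :=
  (∃ b : Module.Basis (Fin d) A Ω[A⁄k], ∀ i, b i = D k A (t i)) ∧
    ∀ i, dDiv hΦ (t i) = ∑ j, M i j • D k A (t j)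

/-- Two coordinate systems are compatible. -/
theorem exists_unit_compat (hΦ : IsFLift p k A B ι π Φ) {t t' : Fin d → A} {M M' : Matrix (Fin d) (Fin d) A}
    (hM : IsJac hΦ t M) (hM' : IsJac hΦ t' M') :
    ∃ c : A, IsUnit c ∧
      exteriorPower.ιMulti A d (fun i => D k A (t i)) = c • exteriorPower.ιMulti A d (fun i => D k A (t' i)) ∧
      M.det = c ^ (p - 1) * M'.det := by
  classical
  obtain ⟨⟨b, hb⟩, hM⟩ := hM
  obtain ⟨⟨b', hb'⟩, hM'⟩ := hM'
  rw [show (fun i => D k A (t i)) = ⇑b from funext fun i => (hb i).symm,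
    show (fun i => D k A (t' i)) = ⇑b' from funext fun i => (hb' i).symm]
  obtain ⟨c, hc⟩ := (bijective_smul_ιMulti b').2 (exteriorPower.ιMulti A d b)
  obtain ⟨c', hc'⟩ := (bijective_smul_ιMulti b).2 (exteriorPower.ιMulti A d b')
  simp only at hc hc'
  have hu : c * c' = 1 := by
    refine (bijective_smul_ιMulti b).1 ?_
    simp only [mul_smul, hc', hc, one_smul]
  refine ⟨c, IsUnit.of_mul_eq_one _ hu, hc.symm, ?_⟩
  let σ : A →+* A :=
    { toFun := fun a => a ^ p
      map_one' := one_pow p
      map_mul' := fun x y => mul_pow x y p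
      map_zero' := zero_pow hp.out.ne_zero
      map_add' := fun x y => by
        obtain ⟨r, hr⟩ := exists_add_pow_prime_eq hp.out x y
        rw [hr, natCast_p_eq_zero hΦ]
        ring }
  obtain ⟨ξ, hξ⟩ := exists_xi hΦ σ fun _ => rfl
  have hθ : ∀ (t : Fin d → A) (M : Matrix (Fin d) (Fin d) A) (b : Module.Basis (Fin d) A Ω[A⁄k]),
      (∀ i, b i = D k A (t i)) → (∀ i, dDiv hΦ (t i) = ∑ j, M i j • D k A (t j)) →
      DispLib.extSemi ξ (exteriorPower.ιMulti A d b) = M.det • exteriorPower.ιMulti A d b := by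
    intro t M b hb hM
    rw [DispLib.extSemi_ιMulti]
    have : (fun i => ξ (b i)) = fun i => ∑ j, M i j • b j := funext fun i => by
      rw [hb i, hξ, hM i]
      simp only [hb]
    rw [this]
    exact alternating_sum_smul (exteriorPower.ιMulti A d) M b
  have h1 := congrArg (DispLib.extSemi ξ) hc
  rw [LinearMap.map_smulₛₗ, hθ t M b hb hM, hθ t' M' b' hb' hM', ← hc, smul_smul, smul_smul] at h1
  have h2 := (bijective_smul_ιMulti b').1 h1
  have h3 : c * (c ^ (p - 1) * M'.det) = c * M.det := by
    rw [← mul_assoc, ← pow_succ', Nat.sub_add_cancel hp.out.one_le]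
    simpa [σ, mul_comm c M.det] using h2
  exact ((IsUnit.of_mul_eq_one _ hu).mul_left_cancel h3).symm

/-- Existence of Jacobian matrices, with a nonzero determinant. -/
theorem exists_isJac (hΦ : IsFLift p k A B ι π Φ) (t : Fin d → A) (b : Module.Basis (Fin d) A Ω[A⁄k])
    (hb : ∀ i, b i = D k A (t i)) :
    ∃ M : Matrix (Fin d) (Fin d) A, IsJac hΦ t M ∧ (Nontrivial A → M.det ≠ 0) := by
  classical
  choose T hT using fun i => hΦ.surj (t i)
  choose F hF using fun i => exists_divided hΦ (T i)
  refine ⟨Matrix.of fun i j => (if i = j then t i ^ (p - 1) else 0) + b.coord j (D k A (π (F i))),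
    ⟨⟨b, hb⟩, fun i => ?_⟩, fun hA => ?_⟩
  · rw [← hT i, dDiv_eq hΦ (hF i), hT i]
    simp only [Matrix.of_apply, add_smul, Finset.sum_add_distrib, ite_smul, zero_smul, Finset.sum_ite_eq,
      Finset.mem_univ, if_true]
    simp only [Module.Basis.coord_apply, ← hb]
    rw [b.sum_repr]
  · haveI : CharP A p := (CharP.charP_iff_prime_eq_zero hp.out).2 (natCast_p_eq_zero hΦ)
    exact det_ne_zero p t b hb _

end Compat

section Restrict

variable {p : ℕ} [hp : Fact p.Prime] {k : Type u} [Field k] [CharP k p] [PerfectRing k p]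
  {A A' : Type u} [CommRing A] [CommRing A'] [Algebra k A] [Algebra k A'] [Algebra A A'] [IsScalarTower k A A']
  [Algebra.FormallyEtale A A']
  {B B' : Type u} [CommRing B] [CommRing B'] {ι : FrobAlg.W2 p k →+* B} {ι' : FrobAlg.W2 p k →+* B'}
  {π : B →+* A} {π' : B' →+* A'} {Φ : B →+* B} {Φ' : B' →+* B'} {d : ℕ}

/-- Jacobian matrices restrict along formally etale maps compatible with the lifts. -/
theorem IsJac.map (hΦ : IsFLift p k A B ι π Φ) (hΦ' : IsFLift p k A' B' ι' π' Φ') (r : B →+* B')
    (hπ : ∀ b, π' (r b) = algebraMap A A' (π b)) (hr : ∀ b, r (Φ b) = Φ' (r b))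
    {t : Fin d → A} {M : Matrix (Fin d) (Fin d) A} (hM : IsJac hΦ t M) :
    IsJac hΦ' (fun i => algebraMap A A' (t i)) (M.map (algebraMap A A')) := by
  obtain ⟨⟨b, hb⟩, hM⟩ := hM
  refine ⟨exists_basis_restrict t b hb, fun i => ?_⟩
  obtain ⟨T, hT⟩ := hΦ.surj (t i)
  obtain ⟨F, hF⟩ := exists_divided hΦ T
  have hF' : Φ' (r T) = r T ^ p + (p : B') * r F := by rw [← hr, hF, map_add, map_pow, map_mul, map_natCast]
  have h := hM i
  rw [← hT, dDiv_eq hΦ hF] at h
  have h2 := congrArg (KaehlerDifferential.map k k A A') h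
  simp only [map_add, map_sum, map_smul, map_D] at h2
  show dDiv hΦ' (algebraMap A A' (t i)) = _
  rw [← hT, ← hπ, dDiv_eq hΦ' hF', hπ, hπ]
  simp only [Matrix.map_apply, algebraMap_smul]
  rw [← map_pow, algebraMap_smul]
  exact h2

end Restrict

end Groth.Agent.Frob15
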