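import Groth.Prelude.Def_FrobAlg
import Mathlib.RingTheory.Etale.Basic
import Mathlib.RingTheory.Kaehler.Basic
import Mathlib.RingTheory.IntegralClosure.IsIntegral.Defs

/-! Relative Frobenius: integrality, kernel, relatively perfect => formally etale. -/

set_option autoImplicit false
set_option linter.unusedSectionVars false

open scoped TensorProduct

noncomputable section

namespace Groth.Agent.Frob15

open _root_.FrobAlg (relFrob BaseChange Twist toTwist)

universe u

variable (p : ℕ) [Fact p.Prime] (A : Type u) [CommRing A] [CharP A p]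
  (B : Type u) [CommRing B] [Algebra A B] [CharP B p]

theorem natCast_eq_zero {C : Type u} [CommRing C] [Algebra A C] : (p : C) = 0 := by
  rw [← map_natCast (algebraMap A C), CharP.cast_eq_zero A p, map_zero]

theorem add_pow_p {C : Type u} [CommRing C] (hC : (p : C) = 0) (x y : C) : (x + y) ^ p = x ^ p + y ^ p := by
  obtain ⟨r, hr⟩ := exists_add_pow_prime_eq (Fact.out : p.Prime) x y
  rw [hr, hC, zero_mul, zero_mul, zero_mul, add_zero]

theorem relFrob_tmul (b : B) (a : Twist p A) :
    relFrob p A B (b ⊗ₜ[A] a) = b ^ p * algebraMap A B ((toTwist p A).symm a) := rfl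

theorem pow_p_eq (x : BaseChange p A B) : x ^ p = relFrob p A B x ⊗ₜ[A] (1 : Twist p A) := by
  induction x using TensorProduct.induction_on with
  | zero => rw [map_zero, TensorProduct.zero_tmul, zero_pow (Fact.out : p.Prime).ne_zero]
  | add x y hx hy => rw [add_pow_p p (natCast_eq_zero p A) x y, hx, hy, map_add, TensorProduct.add_tmul]
  | tmul b a =>
    obtain ⟨a, rfl⟩ := (toTwist p A).surjective a
    rw [Algebra.TensorProduct.tmul_pow, relFrob_tmul, RingEquiv.symm_apply_apply, mul_comm,
      ← Algebra.smul_def, TensorProduct.smul_tmul, ← Algebra.algebraMap_eq_smul_one, FrobAlg.algebraMap_twist,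
      ← map_pow]

theorem relFrob_isIntegral : (relFrob p A B).IsIntegral := fun b => by
  refine ⟨Polynomial.X ^ p - Polynomial.C (b ⊗ₜ[A] (1 : Twist p A)),
    Polynomial.monic_X_pow_sub_C _ (Fact.out : p.Prime).ne_zero, ?_⟩
  rw [Polynomial.eval₂_sub, Polynomial.eval₂_pow, Polynomial.eval₂_X, Polynomial.eval₂_C, relFrob_tmul]
  rw [show ((toTwist p A).symm (1 : Twist p A)) = 1 from rfl, map_one, mul_one, sub_self]

theorem exists_ringHom_baseChange {C : Type u} [CommRing C] (v : B →+* C) (α : A →+* C)
    (h : ∀ a, v (algebraMap A B a) = α a ^ p) :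
    ∃ φ : BaseChange p A B →+* C, ∀ b a, φ (b ⊗ₜ[A] a) = v b * α ((toTwist p A).symm a) := by
  letI : Algebra A C := (v.comp (algebraMap A B)).toAlgebra
  let f : B →ₐ[A] C := { toRingHom := v, commutes' := fun a => rfl }
  let g : Twist p A →ₐ[A] C :=
    { toRingHom := α.comp ((toTwist p A).symm : Twist p A →+* A)
      commutes' := fun a => by
        show α ((toTwist p A).symm (algebraMap A (Twist p A) a)) = v (algebraMap A B a)
        rw [FrobAlg.algebraMap_twist, RingEquiv.symm_apply_apply, map_pow, h] }
  exact ⟨(Algebra.TensorProduct.lift f g (fun _ _ => Commute.all _ _)).toRingHom,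
    fun b a => Algebra.TensorProduct.lift_tmul _ _ _ _ _⟩

theorem formallyEtale_of_bijective (hb : Function.Bijective (relFrob p A B)) : Algebra.FormallyEtale A B := by
  rw [Algebra.FormallyEtale.iff_comp_bijective]
  intro C _ _ I hI
  have hp : (p : C) = 0 := natCast_eq_zero p A
  have hpI : ∀ x ∈ I, x ^ p = 0 := fun x hx => by
    have h2 : x ^ 2 ∈ I ^ 2 := Ideal.pow_mem_pow hx 2
    rw [hI, Ideal.mem_bot] at h2
    obtain ⟨n, hn⟩ := Nat.exists_eq_add_of_le (Fact.out : p.Prime).two_le
    rw [hn, pow_add, h2, zero_mul]
  let pth : C →+* C :=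
    { toFun := fun x => x ^ p
      map_one' := one_pow p
      map_mul' := fun x y => mul_pow x y p
      map_zero' := zero_pow (Fact.out : p.Prime).ne_zero
      map_add' := add_pow_p p hp }
  let σ : C ⧸ I →+* C := Ideal.Quotient.lift I pth hpI
  have hσ : ∀ x, Ideal.Quotient.mk I (σ x) = x ^ p := fun x => by
    obtain ⟨x, rfl⟩ := Ideal.Quotient.mk_surjective x
    rw [Ideal.Quotient.lift_mk]
    exact map_pow _ x p
  let e := RingEquiv.ofBijective _ hb
  constructor
  · intro g₁ g₂ hg
    refine AlgHom.ext fun b => ?_
    obtain ⟨t, rfl⟩ := hb.2 b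
    induction t using TensorProduct.induction_on with
    | zero => simp
    | add x y hx hy => rw [map_add, map_add, map_add, hx, hy]
    | tmul c a =>
      rw [relFrob_tmul, map_mul, map_mul, AlgHom.commutes, AlgHom.commutes, map_pow, map_pow]
      congr 1
      have h0 : Ideal.Quotient.mk I (g₁ c) = Ideal.Quotient.mk I (g₂ c) := DFunLike.congr_fun hg c
      have h1 : ∀ x : C, x ^ p = σ (Ideal.Quotient.mk I x) := fun x => (Ideal.Quotient.lift_mk I pth hpI).symm
      rw [h1, h1, h0]
  · intro gb
    obtain ⟨φ, hφ⟩ := exists_ringHom_baseChange p A B (σ.comp gb.toRingHom) (algebraMap A C) fun a => by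
      show σ (gb (algebraMap A B a)) = _
      rw [AlgHom.commutes]
      exact Ideal.Quotient.lift_mk I pth hpI
    refine ⟨{ toRingHom := φ.comp e.symm.toRingHom, commutes' := fun a => ?_ }, AlgHom.ext fun b => ?_⟩
    · show φ (e.symm (algebraMap A B a)) = algebraMap A C a
      have : e.symm (algebraMap A B a) = (1 : B) ⊗ₜ[A] toTwist p A a := e.injective (by
        rw [RingEquiv.apply_symm_apply, RingEquiv.ofBijective_apply, relFrob_tmul, RingEquiv.symm_apply_apply, one_pow, one_mul])
      rw [this, hφ, map_one, one_mul, RingEquiv.symm_apply_apply]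
    · obtain ⟨t, rfl⟩ := hb.2 b
      show Ideal.Quotient.mk I (φ (e.symm (relFrob p A B t))) = gb (relFrob p A B t)
      rw [show relFrob p A B t = e t from rfl, RingEquiv.symm_apply_apply]
      show Ideal.Quotient.mk I (φ t) = gb (relFrob p A B t)
      induction t using TensorProduct.induction_on with
      | zero => simp
      | add x y hx hy => rw [map_add, map_add, map_add, map_add, hx, hy]
      | tmul c a =>
        rw [hφ, relFrob_tmul, map_mul, map_mul, AlgHom.commutes, map_pow, RingHom.comp_apply, hσ]
        rfl

theorem formallyUnramified_iff :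
    Algebra.FormallyUnramified A B ↔
      @Algebra.FormallyUnramified (BaseChange p A B) B _ _ (relFrob p A B).toAlgebra := by
  letI alg : Algebra (BaseChange p A B) B := (relFrob p A B).toAlgebra
  constructor
  · intro h
    refine ⟨subsingleton_of_forall_eq 0 fun ω => ?_⟩
    let D := KaehlerDifferential.D (BaseChange p A B) B
    let D₀ : Derivation A B Ω[B⁄BaseChange p A B] :=
      { toFun := fun b => D b
        map_add' := fun x y => map_add D x y
        map_smul' := fun a b => by
          show D (a • b) = a • D b
          rw [← algebraMap_smul B a (D b), Algebra.smul_def, D.leibniz]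
          have : algebraMap A B a = algebraMap (BaseChange p A B) B ((1 : B) ⊗ₜ[A] toTwist p A a) := by
            show _ = relFrob p A B _
            rw [relFrob_tmul, RingEquiv.symm_apply_apply, one_pow, one_mul]
          rw [this, D.map_algebraMap, smul_zero, add_zero]
        map_one_eq_zero' := D.map_one_eq_zero
        leibniz' := fun x y => D.leibniz x y }
    have hD : ∀ b, D b = 0 := fun b => by
      show D₀ b = 0
      rw [← Derivation.liftKaehlerDifferential_comp_D D₀ b, Subsingleton.elim (KaehlerDifferential.D A B b) 0, map_zero]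
    have hω : ω ∈ Submodule.span B (Set.range D) := by
      rw [KaehlerDifferential.span_range_derivation]; exact Submodule.mem_top
    induction hω using Submodule.span_induction with
    | mem x hx => obtain ⟨b, rfl⟩ := hx; exact hD b
    | zero => rfl
    | add x y _ _ hx hy => rw [hx, hy, add_zero]
    | smul c x _ hx => rw [hx, smul_zero]
  · intro h
    refine ⟨subsingleton_of_forall_eq 0 fun ω => ?_⟩
    let D := KaehlerDifferential.D A B
    have hpow : ∀ c : B, D (c ^ p) = 0 := fun c => by
      rw [D.leibniz_pow, ← Nat.cast_smul_eq_nsmul B, CharP.cast_eq_zero B p, zero_smul]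
    have hrel : ∀ t, D (relFrob p A B t) = 0 := fun t => by
      induction t using TensorProduct.induction_on with
      | zero => simp
      | add x y hx hy => rw [map_add, map_add, hx, hy, add_zero]
      | tmul c a => rw [relFrob_tmul, D.leibniz, hpow, D.map_algebraMap, smul_zero, smul_zero, add_zero]
    let D₀ : Derivation (BaseChange p A B) B Ω[B⁄A] :=
      { toFun := fun b => D b
        map_add' := fun x y => map_add D x y
        map_smul' := fun t b => by
          show D (relFrob p A B t * b) = t • D b
          rw [D.leibniz, hrel, smul_zero, add_zero, ← algebraMap_smul B t (D b)]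
          rfl
        map_one_eq_zero' := D.map_one_eq_zero
        leibniz' := fun x y => D.leibniz x y }
    have hD : ∀ b, D b = 0 := fun b => by
      show D₀ b = 0
      rw [← Derivation.liftKaehlerDifferential_comp_D D₀ b,
        Subsingleton.elim (KaehlerDifferential.D (BaseChange p A B) B b) 0, map_zero]
    have hω : ω ∈ Submodule.span B (Set.range D) := by
      rw [KaehlerDifferential.span_range_derivation]; exact Submodule.mem_top
    induction hω using Submodule.span_induction with
    | mem x hx => obtain ⟨b, rfl⟩ := hx; exact hD b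
    | zero => rfl
    | add x y _ _ hx hy => rw [hx, hy, add_zero]
    | smul c x _ hx => rw [hx, smul_zero]

end Groth.Agent.Frob15
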