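import Mathlib
import Groth.Prelude.Def_FrobAlg
import Groth.Agent.Frob15.RelFrob
import Groth.Agent.Frob15.EtaleRelFrob

/-! The relative Frobenius of a smooth algebra of relative dimension `r` is finite locally free of rank `p ^ r`. -/

set_option autoImplicit false
set_option linter.style.haveILetI false

universe u

open TensorProduct

namespace Groth.Agent.Frob15

open FrobAlg

section Expansion

variable (p : ℕ) [hp : Fact p.Prime] {A : Type u} [CommRing A] [CharP A p] (r : ℕ)
  {B : Type u} [CommRing B] [Algebra A B] [CharP B p]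
  [Algebra (MvPolynomial (Fin r) A) B] [IsScalarTower A (MvPolynomial (Fin r) A) B]

local notation "P" => MvPolynomial (Fin r) A

/-- The candidate basis element `x ^ e`. -/
noncomputable def monB (e : Fin r → Fin p) : B :=
  algebraMap P B (MvPolynomial.monomial (Finsupp.equivFunOnFinite.symm fun i => (e i : ℕ)) 1)

/-- Residue of an exponent mod `p`. -/
def expMod (m : Fin r →₀ ℕ) : Fin r → Fin p := fun i => ⟨m i % p, Nat.mod_lt _ hp.out.pos⟩

/-- Quotient of an exponent by `p`. -/
noncomputable def expDiv (m : Fin r →₀ ℕ) : Fin r →₀ ℕ := Finsupp.equivFunOnFinite.symm fun i => m i / p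

theorem bijective_expansion (h : Function.Bijective (relFrob p P B)) :
    Function.Bijective fun c : (Fin r → Fin p) → BaseChange p A B =>
      ∑ e, relFrob p A B (c e) * monB p r (A := A) (B := B) e := by
  classical
  let L : ((Fin r → Fin p) → BaseChange p A B) →+ B :=
    { toFun := fun c => ∑ e, relFrob p A B (c e) * monB p r (A := A) (B := B) e
      map_zero' := by simp
      map_add' := fun c d => by simp only [Pi.add_apply, map_add, add_mul, Finset.sum_add_distrib] }
  have hL : ∀ e x, L (Pi.single e x) = relFrob p A B x * monB p r (A := A) (B := B) e := fun e x => by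
    show ∑ e', _ = _
    rw [Finset.sum_eq_single e (fun e' _ he' => by rw [Pi.single_eq_of_ne he', map_zero, zero_mul])
      (fun he => absurd (Finset.mem_univ e) he), Pi.single_eq_same]
  let z : (Fin r →₀ ℕ) → A →+ ((Fin r → Fin p) → BaseChange p A B) := fun m =>
    { toFun := fun a => Pi.single (expMod p r m)
        (algebraMap P B (MvPolynomial.monomial (expDiv p r m) 1) ⊗ₜ[A] toTwist p A a)
      map_zero' := by simp
      map_add' := fun a b => by simp [TensorProduct.tmul_add, Pi.single_add] }
  let Ψ : P →+ ((Fin r → Fin p) → BaseChange p A B) :=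
    { toFun := fun q => Finsupp.sum (AddMonoidAlgebra.coeff q) fun m a => z m a
      map_zero' := by simp
      map_add' := fun q q' => by
        rw [show AddMonoidAlgebra.coeff (q + q') = AddMonoidAlgebra.coeff q + AddMonoidAlgebra.coeff q' from rfl,
          Finsupp.sum_add_index' (fun m => (z m).map_zero) fun m => (z m).map_add] }
  have hΨ : ∀ (m : Fin r →₀ ℕ) (a : A), Ψ (MvPolynomial.monomial m a) = z m a := fun m a =>
    MvPolynomial.sum_monomial_eq (b := fun m a => z m a) (z m).map_zero
  have hΨmul : ∀ (u q : P), Ψ (u ^ p * q) = (algebraMap P B u ⊗ₜ[A] (1 : Twist p A)) • Ψ q := by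
    intro u q
    haveI : CharP P p := inferInstance
    induction u using MvPolynomial.induction_on' with
    | add u v hu hv =>
      rw [add_pow_char, add_mul, map_add, hu, hv, map_add, TensorProduct.add_tmul, add_smul]
    | monomial n a =>
      induction q using MvPolynomial.induction_on' with
      | add q q' hq hq' => rw [mul_add, map_add, hq, hq', map_add, smul_add]
      | monomial m b =>
        rw [MvPolynomial.monomial_pow, MvPolynomial.monomial_mul, hΨ, hΨ]
        have h1 : expMod p r (p • n + m) = expMod p r m := funext fun i => Fin.ext (by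
          simp [expMod, Nat.add_mod])
        have h2 : expDiv p r (p • n + m) = n + expDiv p r m := Finsupp.ext fun i => by
          simp [expDiv, Nat.mul_add_div hp.out.pos]
        show Pi.single _ _ = _ • Pi.single _ _
        rw [h1, h2, ← Pi.single_smul', smul_eq_mul, Algebra.TensorProduct.tmul_mul_tmul, one_mul]
        congr 1
        have h3 : MvPolynomial.monomial n a * MvPolynomial.monomial (expDiv p r m) (1 : A) =
            a • MvPolynomial.monomial (n + expDiv p r m) (1 : A) := by
          rw [MvPolynomial.monomial_mul, MvPolynomial.smul_monomial, smul_eq_mul]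
        have h4 : ∀ x : P, algebraMap P B (a • x) = a • algebraMap P B x := fun x =>
          (IsScalarTower.toAlgHom A P B).toLinearMap.map_smul a x
        rw [← map_mul (algebraMap P B), h3, h4, TensorProduct.smul_tmul]
        congr 1
  let f : B →+ Twist p P →+ ((Fin r → Fin p) → BaseChange p A B) :=
    { toFun := fun b =>
        { toFun := fun q => (b ⊗ₜ[A] (1 : Twist p A)) • Ψ ((toTwist p P).symm q)
          map_zero' := by simp
          map_add' := fun q q' => by rw [map_add, map_add, smul_add] }
      map_zero' := by ext q; simp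
      map_add' := fun b b' => by
        ext q
        simp [TensorProduct.add_tmul, add_smul] }
  let R : B ⊗[P] Twist p P →+ ((Fin r → Fin p) → BaseChange p A B) :=
    TensorProduct.liftAddHom f fun u b q => by
      obtain ⟨q, rfl⟩ := (toTwist p P).surjective q
      show ((u • b) ⊗ₜ[A] (1 : Twist p A)) • Ψ q = (b ⊗ₜ[A] (1 : Twist p A)) • Ψ ((toTwist p P).symm (u • toTwist p P q))
      rw [Algebra.smul_def u b, Algebra.smul_def u (toTwist p P q), FrobAlg.algebraMap_twist, ← map_mul, RingEquiv.symm_apply_apply,
        hΨmul, smul_smul, Algebra.TensorProduct.tmul_mul_tmul, one_mul, mul_comm b]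
  have hR : ∀ (b : B) (q : P), R (b ⊗ₜ[P] toTwist p P q) = (b ⊗ₜ[A] (1 : Twist p A)) • Ψ q := fun b q => rfl
  have hLsmul : ∀ (b : B) (c : (Fin r → Fin p) → BaseChange p A B),
      L ((b ⊗ₜ[A] (1 : Twist p A)) • c) = b ^ p * L c := fun b c => by
    show ∑ e, _ = _ * ∑ e, _
    rw [Finset.mul_sum]
    refine Finset.sum_congr rfl fun e _ => ?_
    rw [Pi.smul_apply, smul_eq_mul, map_mul, relFrob_tmul, show ((toTwist p A).symm 1 : A) = 1 from rfl,
      map_one, mul_one, mul_assoc]
  have hLΨ : ∀ q : P, L (Ψ q) = algebraMap P B q := by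
    intro q
    induction q using MvPolynomial.induction_on' with
    | add q q' hq hq' => rw [map_add, map_add, hq, hq', map_add]
    | monomial m a =>
      rw [hΨ]
      show L (Pi.single _ _) = _
      rw [hL, relFrob_tmul, RingEquiv.symm_apply_apply, monB, IsScalarTower.algebraMap_apply A P B,
        ← map_pow, ← map_mul, ← map_mul, MvPolynomial.monomial_pow, one_pow, MvPolynomial.algebraMap_eq,
        mul_comm _ (MvPolynomial.C a), MvPolynomial.C_mul_monomial, MvPolynomial.monomial_mul, mul_one, mul_one]
      congr 1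
      congr 1
      · congr 1
        refine Finsupp.ext fun i => ?_
        simp [expMod, expDiv, Nat.div_add_mod]
  have hLR : ∀ t, L (R t) = relFrob p P B t := by
    intro t
    induction t using TensorProduct.induction_on with
    | zero => simp only [map_zero]
    | add x y hx hy => rw [map_add, map_add, hx, hy, map_add]
    | tmul b q =>
      obtain ⟨q, rfl⟩ := (toTwist p P).surjective q
      rw [hR, hLsmul, hLΨ, relFrob_tmul, RingEquiv.symm_apply_apply]
  have hRs : Function.Surjective R := by
    intro c
    rw [← Finset.univ_sum_single c]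
    suffices ∀ e x, Pi.single e x ∈ R.range from
      R.range.sum_mem fun e _ => this e (c e)
    intro e x
    induction x using TensorProduct.induction_on with
    | zero => rw [Pi.single_zero]; exact zero_mem _
    | add x y hx hy => rw [Pi.single_add]; exact add_mem hx hy
    | tmul b t =>
      obtain ⟨a, rfl⟩ := (toTwist p A).surjective t
      refine ⟨b ⊗ₜ[P] toTwist p P (MvPolynomial.monomial (Finsupp.equivFunOnFinite.symm fun i => (e i : ℕ)) a), ?_⟩
      rw [hR, hΨ]
      show _ • Pi.single _ _ = _
      have h1 : expMod p r (Finsupp.equivFunOnFinite.symm fun i => (e i : ℕ)) = e := funext fun i => Fin.ext (by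
        simp [expMod, Nat.mod_eq_of_lt (e i).isLt])
      have h2 : expDiv p r (Finsupp.equivFunOnFinite.symm fun i => (e i : ℕ)) = 0 := Finsupp.ext fun i => by
        simp [expDiv, Nat.div_eq_of_lt (e i).isLt]
      rw [h1, h2, ← Pi.single_smul', smul_eq_mul, Algebra.TensorProduct.tmul_mul_tmul, one_mul,
        MvPolynomial.monomial_zero', MvPolynomial.C_1, map_one, mul_one]
  refine ⟨fun c d hcd => ?_, fun y => ?_⟩
  · obtain ⟨s, rfl⟩ := hRs c
    obtain ⟨t, rfl⟩ := hRs d
    exact congrArg R (h.1 ((hLR s).symm.trans ((show L (R s) = L (R t) from hcd).trans (hLR t))))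
  · obtain ⟨t, rfl⟩ := h.2 y
    exact ⟨R t, hLR t⟩

end Expansion

/-- If `B` is etale over a polynomial ring in `r` variables, it is free of rank `p ^ r` over its twist. -/
theorem free_of_etale_mvPolynomial (p : ℕ) [Fact p.Prime] (A : Type u) [CommRing A] [CharP A p]
    (B : Type u) [CommRing B] [Algebra A B] [CharP B p] (r : ℕ)
    (φ : MvPolynomial (Fin r) A →ₐ[A] B) (hφ : φ.Etale) :
    letI := (FrobAlg.relFrob p A B).toAlgebra
    Module.Free (FrobAlg.BaseChange p A B) B ∧
      ∀ q : PrimeSpectrum (FrobAlg.BaseChange p A B),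
        Module.rankAtStalk (R := FrobAlg.BaseChange p A B) B q = p ^ r := by
  letI := φ.toRingHom.toAlgebra
  haveI : IsScalarTower A (MvPolynomial (Fin r) A) B := IsScalarTower.of_algebraMap_eq fun a => (φ.commutes a).symm
  haveI : Algebra.Etale (MvPolynomial (Fin r) A) B := hφ
  haveI : CharP (MvPolynomial (Fin r) A) p := inferInstance
  haveI : Algebra.FinitePresentation (MvPolynomial (Fin r) A) B := Algebra.Etale.finitePresentation
  have hb := bijective_expansion p r ((etale_iff_bijective_relFrob p (MvPolynomial (Fin r) A) B).1 inferInstance)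
  letI := (FrobAlg.relFrob p A B).toAlgebra
  let L : ((Fin r → Fin p) → FrobAlg.BaseChange p A B) →ₗ[FrobAlg.BaseChange p A B] B :=
    { toFun := fun c => ∑ e, relFrob p A B (c e) * monB p r (A := A) (B := B) e
      map_add' := fun c d => by simp only [Pi.add_apply, map_add, add_mul, Finset.sum_add_distrib]
      map_smul' := fun x c => by
        simp only [Pi.smul_apply, RingHom.id_apply, smul_eq_mul, Algebra.smul_def, map_mul, Finset.mul_sum, mul_assoc]
        rfl }
  let b := (Pi.basisFun (FrobAlg.BaseChange p A B) (Fin r → Fin p)).map (LinearEquiv.ofBijective L hb)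
  haveI hfree : Module.Free (FrobAlg.BaseChange p A B) B := Module.Free.of_basis b
  refine ⟨hfree, fun q => ?_⟩
  haveI : Nontrivial (FrobAlg.BaseChange p A B) := q.nontrivial
  rw [Module.rankAtStalk_eq_finrank_of_free]
  simp [Module.finrank_eq_card_basis b]

end Groth.Agent.Frob15

namespace Groth.Agent.Frob15

open FrobAlg

theorem isLocalization_away_baseChange (A B Bg T : Type u) [CommRing A] [CommRing B] [CommRing Bg] [CommRing T]
    [Algebra A B] [Algebra A Bg] [Algebra A T] [Algebra B Bg] [IsScalarTower A B Bg] (g : B)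
    [IsLocalization.Away g Bg] :
    @IsLocalization.Away (B ⊗[A] T) _ (g ⊗ₜ[A] (1 : T)) (Bg ⊗[A] T) _
      (Algebra.TensorProduct.map (IsScalarTower.toAlgHom A B Bg) (AlgHom.id A T)).toRingHom.toAlgebra := by
  letI : Algebra (B ⊗[A] T) (Bg ⊗[A] T) :=
    (Algebra.TensorProduct.map (IsScalarTower.toAlgHom A B Bg) (AlgHom.id A T)).toRingHom.toAlgebra
  haveI : IsScalarTower B (B ⊗[A] T) (Bg ⊗[A] T) := IsScalarTower.of_algebraMap_eq fun b => by
    show _ = Algebra.TensorProduct.map (IsScalarTower.toAlgHom A B Bg) (AlgHom.id A T) (b ⊗ₜ[A] (1 : T))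
    rw [Algebra.TensorProduct.map_tmul]
    rfl
  have := IsLocalization.tensorProduct_tensorProduct A T (Submonoid.powers g) Bg (RingHom.ext fun t => by
    show Algebra.TensorProduct.map (IsScalarTower.toAlgHom A B Bg) (AlgHom.id A T) ((1 : B) ⊗ₜ[A] t) = (1 : Bg) ⊗ₜ[A] t
    rw [Algebra.TensorProduct.map_tmul, map_one, AlgHom.id_apply])
  rwa [Algebra.algebraMapSubmonoid_powers] at this

theorem chart_step {C C' B Bg : Type u} [CommRing C] [CommRing C'] [CommRing B] [CommRing Bg] [Algebra C B]
    [Algebra B Bg] (ρ' : C' →+* Bg) (ι : C →+* C') (h : C) (g : B) (n : ℕ) (hn : n ≠ 0) [IsLocalization.Away g Bg]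
    (hι : letI := ι.toAlgebra; IsLocalization.Away h C') (hhg : algebraMap C B h = g ^ n)
    (hcomm : ∀ c, algebraMap B Bg (algebraMap C B c) = ρ' (ι c))
    (d : ℕ) (hfree : letI := ρ'.toAlgebra; Module.Free C' Bg ∧ ∀ q : PrimeSpectrum C', Module.rankAtStalk (R := C') Bg q = d)
    (q : PrimeSpectrum C) (hq : h ∉ q.asIdeal) :
    ∃ (N : Type u) (_ : AddCommGroup N) (_ : Module C N) (f : B →ₗ[C] N) (_ : IsLocalizedModule.Away h f),
      Module.Flat C N ∧ (∀ [Module.Finite C B] [Module.Flat C B], Module.rankAtStalk (R := C) B q = d) := by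
  letI := ι.toAlgebra
  letI := ρ'.toAlgebra
  letI : Algebra C Bg := ((algebraMap B Bg).comp (algebraMap C B)).toAlgebra
  haveI : IsScalarTower C B Bg := IsScalarTower.of_algebraMap_eq fun _ => rfl
  haveI : IsScalarTower C C' Bg := IsScalarTower.of_algebraMap_eq fun c => hcomm c
  haveI : IsLocalization.Away h C' := hι
  haveI hlm : IsLocalizedModule (Submonoid.powers h) (IsScalarTower.toAlgHom C B Bg).toLinearMap := by
    refine isLocalizedModule_iff_isLocalization.2 ?_
    rw [Algebra.algebraMapSubmonoid_powers, hhg]
    refine (IsLocalization.iff_of_le_of_exists_dvd (M := Submonoid.powers (g ^ n)) (S := Bg) (Submonoid.powers g)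
      (Submonoid.powers_le.2 (pow_mem (Submonoid.mem_powers g) n)) ?_).2 ‹_›
    rintro _ ⟨k, rfl⟩
    exact ⟨(g ^ n) ^ k, ⟨k, rfl⟩, by rw [← pow_mul, mul_comm, pow_mul]; exact dvd_pow_self _ hn⟩
  haveI : Module.Free C' Bg := hfree.1
  haveI : Module.Flat C C' := IsLocalization.flat C' (Submonoid.powers h)
  refine ⟨Bg, inferInstance, inferInstance, _, hlm, Module.Flat.trans C C' Bg, ?_⟩
  intro _ _
  obtain ⟨q', hq'⟩ : ∃ q' : PrimeSpectrum C', q'.comap (algebraMap C C') = q := by
    have : q ∈ Set.range (PrimeSpectrum.comap (algebraMap C C')) := by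
      rw [PrimeSpectrum.localization_away_comap_range C' h]
      exact hq
    exact this
  have hbc := (isLocalizedModule_iff_isBaseChange (Submonoid.powers h) C' (IsScalarTower.toAlgHom C B Bg).toLinearMap).1 hlm
  rw [← hq', ← Module.rankAtStalk_isBaseChange hbc q']
  exact hfree.2 q'

set_option maxHeartbeats 1000000 in
/-- The relative Frobenius of a smooth algebra of relative dimension `r` is finite locally free of rank `p ^ r`. -/
theorem finite_projective_rank_relFrob (p : ℕ) [Fact p.Prime] (A : Type u) [CommRing A] [CharP A p]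
    (B : Type u) [CommRing B] [Algebra A B] [CharP B p] [Algebra.Smooth A B] (r : ℕ)
    (hr : ∀ q : PrimeSpectrum B, Module.rankAtStalk (R := B) (KaehlerDifferential A B) q = r) :
    letI := (FrobAlg.relFrob p A B).toAlgebra
    Module.Finite (FrobAlg.BaseChange p A B) B ∧ Module.Projective (FrobAlg.BaseChange p A B) B ∧
      ∀ q : PrimeSpectrum (FrobAlg.BaseChange p A B),
        Module.rankAtStalk (R := FrobAlg.BaseChange p A B) B q = p ^ r := by
  letI algC := (FrobAlg.relFrob p A B).toAlgebra
  let T := Twist p A
  let C := BaseChange p A B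
  -- finite presentation
  haveI : Algebra.FinitePresentation C B := by
    have h1 : ((relFrob p A B).comp (algebraMap T C)).FinitePresentation := by
      rw [show (relFrob p A B).comp (algebraMap T C) = (algebraMap A B).comp ((toTwist p A).symm : T →+* A) from
        RingHom.ext fun t => by
          show relFrob p A B ((1 : B) ⊗ₜ[A] t) = _
          rw [relFrob_tmul, one_pow, one_mul]
          rfl]
      exact RingHom.FinitePresentation.comp
        (RingHom.finitePresentation_algebraMap.2 (inferInstance : Algebra.FinitePresentation A B))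
        (RingHom.FinitePresentation.of_bijective (toTwist p A).symm.bijective)
    have h2 : (algebraMap T C).FiniteType := RingHom.finiteType_algebraMap.2
      (Algebra.FiniteType.equiv (inferInstanceAs (Algebra.FiniteType T (T ⊗[A] B))) (Algebra.TensorProduct.commRight A T B))
    exact RingHom.FinitePresentation.of_comp_finiteType _ h1 h2
  haveI : Algebra.IsIntegral C B := ⟨relFrob_isIntegral p A B⟩
  haveI hfin : Module.Finite C B := Algebra.IsIntegral.finite
  haveI : Module.FinitePresentation C B := Module.FinitePresentation.of_finite_of_finitePresentation C B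
  -- the surjection on spectra
  have hker : ∀ x : C, relFrob p A B x = 0 → x ^ p = 0 := fun x hx => by
    rw [pow_p_eq, hx, TensorProduct.zero_tmul]
  have hsurj : ∀ q : PrimeSpectrum C, ∃ Q : PrimeSpectrum B, q = Q.comap (algebraMap C B) := fun q => by
    obtain ⟨Q, -, hQ, hQq⟩ := Ideal.exists_ideal_over_prime_of_isIntegral q.asIdeal (⊥ : Ideal B) (by
      rw [← RingHom.ker_eq_comap_bot]
      intro x hx
      exact q.2.mem_of_pow_mem p ((hker x hx).symm ▸ zero_mem _))
    exact ⟨⟨Q, hQ⟩, PrimeSpectrum.ext hQq.symm⟩
  have key : ∀ q : PrimeSpectrum C, ∃ (h : C) (N : Type u) (_ : AddCommGroup N) (_ : Module C N)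
      (f : B →ₗ[C] N) (_ : IsLocalizedModule.Away h f),
      h ∉ q.asIdeal ∧ Module.Flat C N ∧ (∀ [Module.Finite C B] [Module.Flat C B], Module.rankAtStalk (R := C) B q = p ^ r) := by
    intro q
    obtain ⟨Q, hQ⟩ := hsurj q
    obtain ⟨g, hg, hstd⟩ := Algebra.IsSmoothAt.exists_notMem_isStandardSmooth A Q.asIdeal
    let Bg := Localization.Away g
    haveI hnt : Nontrivial Bg := by
      rw [← not_subsingleton_iff_nontrivial, IsLocalization.subsingleton_iff (M := Submonoid.powers g) (S := Bg)]
      rintro ⟨n, hn⟩
      exact hg (Q.2.mem_of_pow_mem n (by rw [show g ^ n = 0 from hn]; exact zero_mem _))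
    haveI : CharP Bg p := ringChar.of_eq (CharP.ringChar_of_prime_eq_zero Fact.out (natCast_eq_zero p A))
    -- the relative dimension of the chart is `r`
    obtain ⟨ι, σ, _, _, ⟨P⟩⟩ := hstd
    haveI : Algebra.IsStandardSmoothOfRelativeDimension P.dimension A Bg := ⟨ι, σ, ‹_›, ‹_›, P, rfl⟩
    obtain ⟨Q', hQ'⟩ : ∃ Q' : PrimeSpectrum Bg, Q'.comap (algebraMap B Bg) = Q := by
      have : Q ∈ Set.range (PrimeSpectrum.comap (algebraMap B Bg)) := by
        rw [PrimeSpectrum.localization_away_comap_range Bg g]
        exact hg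
      exact this
    have hdim : P.dimension = r := by
      haveI : Module.Free Bg (KaehlerDifferential A Bg) := P.free_kaehlerDifferential
      have h1 := Module.rankAtStalk_isBaseChange (haveI : Algebra.FormallyEtale B Bg := Algebra.FormallyEtale.of_isLocalization (Submonoid.powers g); KaehlerDifferential.isBaseChange_of_formallyEtale A B Bg) Q'
      rw [hQ', hr, Module.rankAtStalk_eq_finrank_of_free] at h1
      simp only [Pi.natCast_apply, Nat.cast_id] at h1
      rw [← h1, Module.finrank, P.rank_kaehlerDifferential, Cardinal.toNat_natCast]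
    obtain ⟨φ, hφ⟩ := Algebra.IsStandardSmoothOfRelativeDimension.exists_etale_mvPolynomial (R := A) (S := Bg) (n := P.dimension)
    obtain ⟨hfree, hrk⟩ := free_of_etale_mvPolynomial p A Bg P.dimension φ hφ
    rw [hdim] at hrk
    let C' := BaseChange p A Bg
    let ι : C →+* C' := (Algebra.TensorProduct.map (IsScalarTower.toAlgHom A B Bg) (AlgHom.id A T)).toRingHom
    have hcomm : ∀ c, algebraMap B Bg (relFrob p A B c) = relFrob p A Bg (ι c) := fun c => by
      show _ = relFrob p A Bg (Algebra.TensorProduct.map (IsScalarTower.toAlgHom A B Bg) (AlgHom.id A T) c)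
      induction c using TensorProduct.induction_on with
      | zero => simp only [map_zero]
      | add x y hx hy => simp only [map_add, hx, hy]
      | tmul b t =>
        rw [Algebra.TensorProduct.map_tmul, relFrob_tmul, relFrob_tmul, map_mul, map_pow, AlgHom.id_apply,
          IsScalarTower.toAlgHom_apply, ← IsScalarTower.algebraMap_apply]
    let h : C := g ⊗ₜ[A] (1 : T)
    have hι : @IsLocalization.Away C _ h C' _ ι.toAlgebra := isLocalization_away_baseChange A B Bg T g
    have hhg : algebraMap C B h = g ^ p := by
      show relFrob p A B (g ⊗ₜ[A] (1 : T)) = g ^ p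
      rw [relFrob_tmul, show ((toTwist p A).symm 1 : A) = 1 from rfl, map_one, mul_one]
    have hhq : h ∉ q.asIdeal := by
      rw [hQ]
      show algebraMap C B h ∉ Q.asIdeal
      rw [hhg]
      exact fun hm => hg (Q.2.mem_of_pow_mem p hm)
    obtain ⟨N, i1, i2, f, hf, hflat, hrank⟩ := chart_step (relFrob p A Bg) ι h g p (Fact.out : p.Prime).ne_zero hι hhg hcomm
      (p ^ r) ⟨hfree, hrk⟩ q hhq
    exact ⟨h, N, i1, i2, f, hf, hhq, hflat, hrank⟩
  choose hel N iN mN fN hfN hmem hflat hrk using key
  haveI : Module.Flat C B := by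
    haveI : ∀ i : Set.range hel, IsLocalizedModule.Away i.1 (fN i.2.choose) := fun i => by
      have := hfN i.2.choose
      rwa [show hel i.2.choose = i.1 from i.2.choose_spec] at this
    refine Module.flat_of_isLocalized_span (R := C) C B (Set.range hel) ?_ (fun i => N i.2.choose)
      (fun i => fN i.2.choose) (fun i => hflat i.2.choose)
    · by_contra hne
      obtain ⟨m, hm, hle⟩ := Ideal.exists_le_maximal _ hne
      exact hmem ⟨m, hm.isPrime⟩ (hle (Ideal.subset_span ⟨_, rfl⟩))
  exact ⟨hfin, Module.Flat.projective_of_finitePresentation, fun q => hrk q⟩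

end Groth.Agent.Frob15
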