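import Mathlib

/-! Tensoring a limit of modules with a projective module. -/

set_option autoImplicit false

universe u v

open TensorProduct

namespace Groth.Agent.Frob15

variable {R : Type u} [CommRing R] (M : Type u) [AddCommGroup M] [Module R M]
  {W : Type u} [AddCommGroup W] [Module R W] {V : ℕ → Type u} [∀ i, AddCommGroup (V i)] [∀ i, Module R (V i)]
  (ev : ∀ i, W →ₗ[R] V i)

theorem lid_rTensor_lTensor (φ : M →ₗ[R] R) (i : ℕ) (x : M ⊗[R] W) :
    TensorProduct.lid R (V i) (φ.rTensor (V i) ((ev i).lTensor M x)) = ev i (TensorProduct.lid R W (φ.rTensor W x)) := by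
  induction x using TensorProduct.induction_on with
  | zero => simp
  | add x y hx hy => simp only [map_add, hx, hy]
  | tmul m w => simp

theorem injective_pi_lTensor [Module.Projective R M] (hev : Function.Injective (LinearMap.pi ev)) :
    Function.Injective (LinearMap.pi fun i => (ev i).lTensor M) := by
  classical
  rw [injective_iff_map_eq_zero]
  intro x hx
  obtain ⟨s, hs⟩ := (Module.projective_def (R := R) (P := M)).1 inferInstance
  have h0 : ∀ φ : M →ₗ[R] R, TensorProduct.lid R W (φ.rTensor W x) = 0 := fun φ => by
    refine hev ?_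
    rw [map_zero]
    funext i
    show ev i _ = 0
    rw [← lid_rTensor_lTensor, show (ev i).lTensor M x = 0 from congrFun hx i, map_zero, map_zero]
  have h1 : s.rTensor W x = 0 := by
    apply (TensorProduct.finsuppScalarLeft R W M).injective
    ext j
    rw [map_zero, Finsupp.zero_apply, TensorProduct.finsuppScalarLeft_apply, ← h0 ((Finsupp.lapply j).comp s),
      LinearMap.rTensor_comp]
    rfl
  have h2 : Function.LeftInverse ((Finsupp.linearCombination R (id : M → M)).rTensor W) (s.rTensor W) := fun y => by
    rw [← LinearMap.rTensor_comp_apply, show (Finsupp.linearCombination R (id : M → M)).comp s = LinearMap.id from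
      LinearMap.ext hs, LinearMap.rTensor_id, LinearMap.id_apply]
  exact h2.injective (h1.trans (map_zero _).symm)

theorem mem_range_pi_lTensor_iff [Module.Finite R M] [Module.Projective R M]
    (F : ∀ i, V (i + 1) →ₗ[R] V i) (hev : ∀ i w, F i (ev (i + 1) w) = ev i w)
    (hsurj : ∀ v : ∀ i, V i, (∀ i, F i (v (i + 1)) = v i) → ∃ w, ∀ i, ev i w = v i)
    (y : ∀ i, M ⊗[R] V i) :
    y ∈ LinearMap.range (LinearMap.pi fun i => (ev i).lTensor M) ↔ ∀ i, (F i).lTensor M (y (i + 1)) = y i := by
  constructor
  · rintro ⟨x, rfl⟩ i
    show (F i).lTensor M ((ev (i + 1)).lTensor M x) = (ev i).lTensor M x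
    rw [← LinearMap.lTensor_comp_apply]
    congr 2
    exact LinearMap.ext (hev i)
  · intro hy
    obtain ⟨n, f, g, -, -, hfg⟩ := Module.Finite.exists_comp_eq_id_of_projective R M
    have hn : ∀ (i : ℕ) (j : Fin n), F i (TensorProduct.lid R _ (((LinearMap.proj j).comp g).rTensor _ (y (i + 1)))) =
        TensorProduct.lid R _ (((LinearMap.proj j).comp g).rTensor _ (y i)) := fun i j => by
      rw [← hy i]
      generalize y (i + 1) = z
      induction z using TensorProduct.induction_on with
      | zero => simp
      | add x y hx hy => simp only [map_add, hx, hy]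
      | tmul m w => simp
    choose w hw using fun j => hsurj (fun i => TensorProduct.lid R _ (((LinearMap.proj j).comp g).rTensor _ (y i))) fun i => hn i j
    refine ⟨∑ j, f (Pi.single j 1) ⊗ₜ[R] w j, funext fun i => ?_⟩
    show (ev i).lTensor M _ = y i
    rw [map_sum]
    simp only [LinearMap.lTensor_tmul, hw]
    generalize y i = z
    induction z using TensorProduct.induction_on with
    | zero => simp
    | add x y hx hy => simp only [map_add, TensorProduct.tmul_add, Finset.sum_add_distrib, hx, hy]
    | tmul m v =>
      simp only [LinearMap.rTensor_tmul, TensorProduct.lid_tmul, TensorProduct.tmul_smul, LinearMap.comp_apply,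
        LinearMap.proj_apply, TensorProduct.smul_tmul']
      rw [← TensorProduct.sum_tmul]
      congr 1
      simp only [← map_smul, ← map_sum]
      conv_rhs => rw [show m = f (g m) from (LinearMap.congr_fun hfg m).symm, pi_eq_sum_univ' (g m)]

end Groth.Agent.Frob15
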