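import Mathlib

/-! F-finiteness: quotients, localizations, algebras of finite type, power series. -/

set_option autoImplicit false

noncomputable section

namespace Groth.Agent.Frob15

universe u v

variable (p : ℕ) [Fact p.Prime]

theorem finite_frobenius_of_surjective {A : Type u} {B : Type v} [CommRing A] [CommRing B] [CharP A p] [CharP B p]
    (f : A →+* B) (hf : Function.Surjective f) (hF : (frobenius A p).Finite) : (frobenius B p).Finite := by
  refine RingHom.Finite.of_comp_finite (f := f) ?_
  rw [show (frobenius B p).comp f = f.comp (frobenius A p) from RingHom.ext fun a => (f.map_frobenius p a).symm]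
  exact (RingHom.Finite.of_surjective f hf).comp hF

theorem finite_of_generators {A : Type u} {B : Type v} [CommRing A] [CommRing B] (f : A →+* B) {ι : Type*}
    [Fintype ι] (g : ι → B) (h : ∀ b, ∃ c : ι → A, b = ∑ i, f (c i) * g i) : f.Finite := by
  algebraize [f]
  refine Module.Finite.of_surjective (Fintype.linearCombination A g) fun b => ?_
  obtain ⟨c, hc⟩ := h b
  exact ⟨c, by rw [hc, Fintype.linearCombination_apply]; rfl⟩

theorem exists_generators {A : Type u} {B : Type v} [CommRing A] [CommRing B] (f : A →+* B) (hf : f.Finite) :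
    ∃ (n : ℕ) (g : Fin n → B), ∀ b, ∃ c : Fin n → A, b = ∑ i, f (c i) * g i := by
  algebraize [f]
  obtain ⟨n, g, hg⟩ := Module.Finite.exists_fin (R := A) (M := B)
  refine ⟨n, g, fun b => ?_⟩
  obtain ⟨c, hc⟩ := (Submodule.mem_span_range_iff_exists_fun A).1 (hg ▸ Submodule.mem_top : b ∈ Submodule.span A (Set.range g))
  exact ⟨c, hc.symm⟩

theorem finite_frobenius_of_isLocalization {A : Type u} {B : Type v} [CommRing A] [CommRing B] [CharP A p] [CharP B p]
    [Algebra A B] (S : Submonoid A) [IsLocalization S B] (hF : (frobenius A p).Finite) :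
    (frobenius B p).Finite := by
  obtain ⟨n, g, hg⟩ := exists_generators _ hF
  refine finite_of_generators _ (fun i => algebraMap A B (g i)) fun b => ?_
  obtain ⟨a, t, rfl⟩ := IsLocalization.exists_mk'_eq S b
  have hp : 0 < p := (Fact.out : p.Prime).pos
  obtain ⟨c, hc⟩ := hg (a * (t : A) ^ (p - 1))
  refine ⟨fun i => IsLocalization.mk' B (c i) t, ?_⟩
  have e : ∀ x : A, IsLocalization.mk' B x t * algebraMap A B (t : A) = algebraMap A B x := fun x =>
    IsLocalization.mk'_spec B x t
  refine ((IsLocalization.map_units B t).pow p).mul_left_injective ?_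
  show IsLocalization.mk' B a t * algebraMap A B (t : A) ^ p = _ * algebraMap A B (t : A) ^ p
  rw [Finset.sum_mul]
  calc IsLocalization.mk' B a t * algebraMap A B (t : A) ^ p
      = algebraMap A B (a * (t : A) ^ (p - 1)) := by
        rw [show p = p - 1 + 1 by omega, pow_succ', ← mul_assoc, e, map_mul, map_pow, Nat.add_sub_cancel]
    _ = _ := by
        rw [hc, map_sum]
        refine Finset.sum_congr rfl fun i _ => ?_
        simp only [frobenius_def]
        rw [mul_right_comm, ← mul_pow, e, map_mul, map_pow]

theorem finite_frobenius_of_finiteType {A : Type u} {B : Type v} [CommRing A] [CommRing B] [CharP A p] [CharP B p]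
    (f : A →+* B) (hf : f.FiniteType) (hF : (frobenius A p).Finite) : (frobenius B p).Finite := by
  have hft : (frobenius B p).FiniteType := by
    refine RingHom.FiniteType.of_comp_finiteType (f := f) ?_
    rw [show (frobenius B p).comp f = f.comp (frobenius A p) from RingHom.ext fun a => (f.map_frobenius p a).symm]
    exact hf.comp (RingHom.Finite.finiteType hF)
  refine RingHom.IsIntegral.to_finite (fun x => ?_) hft
  refine ⟨Polynomial.X ^ p - Polynomial.C x, Polynomial.monic_X_pow_sub_C _ (Fact.out : p.Prime).ne_zero, ?_⟩
  simp [frobenius_def]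

theorem finite_frobenius_powerSeries (k : Type u) [Field k] [CharP k p] [PerfectRing k p]
    [CharP (PowerSeries k) p] : (frobenius (PowerSeries k) p).Finite := by
  classical
  have hp0 : p ≠ 0 := (Fact.out : p.Prime).ne_zero
  refine finite_of_generators _ (fun i : Fin p => (PowerSeries.X : PowerSeries k) ^ (i : ℕ)) fun f => ?_
  let g : ℕ → PowerSeries k := fun i => PowerSeries.mk fun n => PowerSeries.coeff (i + p * n) f
  let h : ℕ → PowerSeries k := fun i => PowerSeries.map ((frobeniusEquiv k p).symm : k →+* k) (g i)
  have hh : ∀ i, h i ^ p = PowerSeries.expand p hp0 (g i) := fun i => by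
    have e1 : PowerSeries.map (frobenius k p) (PowerSeries.expand p hp0 (h i)) = h i ^ p :=
      MvPowerSeries.map_frobenius_expand p hp0
    rw [← e1, PowerSeries.map_expand]
    congr 1
    ext n
    simp only [h, PowerSeries.coeff_map, RingHom.coe_coe, frobenius_apply_frobeniusEquiv_symm]
  have hf : f = ∑ i ∈ Finset.range p, h i ^ p * (PowerSeries.X : PowerSeries k) ^ i := by
    ext m
    rw [map_sum, Finset.sum_eq_single (m % p)]
    · rw [PowerSeries.coeff_mul_X_pow', if_pos (Nat.mod_le m p), hh,
        show m - m % p = p * (m / p) from by rw [Nat.sub_eq_iff_eq_add (Nat.mod_le m p), Nat.div_add_mod],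
        PowerSeries.coeff_expand_mul]
      simp only [g, PowerSeries.coeff_mk, Nat.mod_add_div]
    · intro i hi hne
      rw [PowerSeries.coeff_mul_X_pow']
      split_ifs with hle
      · rw [hh]
        refine PowerSeries.coeff_expand_of_not_dvd _ _ _ fun hd => hne ?_
        have := (Nat.modEq_iff_dvd' hle).2 hd
        rw [Nat.ModEq, Nat.mod_eq_of_lt (Finset.mem_range.1 hi)] at this
        exact this
      · rfl
    · intro hm
      exact absurd (Finset.mem_range.2 (Nat.mod_lt m (Nat.pos_of_ne_zero hp0))) hm
  refine ⟨fun i => h i, hf.trans ?_⟩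
  rw [Finset.sum_range]
  exact Finset.sum_congr rfl fun i _ => by rw [frobenius_def]

end Groth.Agent.Frob15
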