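import Groth.Prelude.Def_Coh
import Groth.Agent.CurveRR24.RR
import Groth.Agent.Coherent.ProperFinite
import Mathlib.Algebra.Homology.DerivedCategory.Ext.ExactSequences
import Mathlib.Algebra.CharP.Frobenius
import Mathlib.FieldTheory.Perfect

/-!
# Cohomology and the Frobenius map of the structure sheaf
-/

set_option autoImplicit false
set_option backward.isDefEq.respectTransparency false

universe u

open CategoryTheory CategoryTheory.Limits AlgebraicGeometry Opposite TopologicalSpace

namespace Groth.Agent.Frob15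

/-- A `p`-semilinear injective map of a finite-dimensional space over a perfect field is bijective. -/
theorem bijective_of_semilinear {k V : Type*} [Field k] (p : ℕ) [Fact p.Prime] [CharP k p] [PerfectRing k p]
    [AddCommGroup V] [Module k V] [Module.Finite k V] (F : V →+ V) (hF : ∀ (c : k) (x : V), F (c • x) = c ^ p • F x)
    (hinj : Function.Injective F) : Function.Bijective F := by
  haveI : ExpChar k p := ExpChar.prime Fact.out
  refine ⟨hinj, ?_⟩
  let b := Module.finBasis k V
  have hroot : ∀ c : k, ((frobeniusEquiv k p).symm c) ^ p = c := fun c => frobeniusEquiv_symm_pow_p k p c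
  have key : ∀ g : Fin (Module.finrank k V) → k, ∑ i, g i • F (b i) = F (∑ i, (frobeniusEquiv k p).symm (g i) • b i) :=
    fun g => by simp only [map_sum, hF, hroot]
  have hli : LinearIndependent k fun i => F (b i) := by
    rw [Fintype.linearIndependent_iff]
    intro g hg i
    rw [key, ← map_zero F] at hg
    have h2 := Fintype.linearIndependent_iff.1 b.linearIndependent _ (hinj hg) i
    rw [← hroot (g i), h2, zero_pow (Fact.out : p.Prime).ne_zero]
  intro y
  have hy : y ∈ Submodule.span k (Set.range fun i => F (b i)) := by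
    rw [hli.span_eq_top_of_card_eq_finrank' (Fintype.card_fin _)]
    trivial
  obtain ⟨g, rfl⟩ := (Submodule.mem_span_range_iff_exists_fun k).1 hy
  exact ⟨_, (key g).symm⟩

variable {p : ℕ} [hp : Fact p.Prime] {X : Scheme.{u}}
  {φ : Coh.toAb (Coh.structureModule X) ⟶ Coh.toAb (Coh.structureModule X)}
  (hφ : ∀ (U : X.Opens) (t : Γ(X, U)), φ.hom.app (op U) t = t ^ p)

include hφ in
/-- The power map is semilinear on cohomology. -/
theorem map_frob_smul {k : Type u} [Field k] [X.Over (Spec (CommRingCat.of k))] (i : ℕ) (c : k)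
    (x : Coh.HH X (Coh.structureModule X) i) :
    Sheaf.H.map φ i (c • x) = c ^ p • Sheaf.H.map φ i x := by
  show Sheaf.H.map φ i (Sheaf.H.map (Coh.smulAb _ (Coh.toGlobal _ c)) i x) =
    Sheaf.H.map (Coh.smulAb _ (Coh.toGlobal _ (c ^ p))) i (Sheaf.H.map φ i x)
  rw [← Sheaf.H.map_comp_apply, ← Sheaf.H.map_comp_apply]
  refine congrArg (fun ψ => Sheaf.H.map ψ i x) ?_
  ext U m
  show φ.hom.app U ((show Γ(X, U.unop) from Coh.resTop X U (Coh.toGlobal _ c)) * (show Γ(X, U.unop) from m)) =
    (show Γ(X, U.unop) from Coh.resTop X U (Coh.toGlobal _ (c ^ p))) * (show Γ(X, U.unop) from φ.hom.app U m)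
  let r : Γ(X, U.unop) := Coh.resTop X U (Coh.toGlobal (X ↘ Spec (CommRingCat.of k)) c)
  let m' : Γ(X, U.unop) := m
  have e : (show Γ(X, U.unop) from Coh.resTop X U (Coh.toGlobal (X ↘ Spec (CommRingCat.of k)) (c ^ p))) = r ^ p := by
    show Coh.resTop X U (Coh.toGlobal _ (c ^ p)) = _
    rw [map_pow, map_pow]
  have e2 : (show Γ(X, U.unop) from φ.hom.app U m') = m' ^ p := hφ U.unop m'
  refine (hφ U.unop (r * m')).trans ((mul_pow r m' p).trans ?_)
  rw [e]
  exact congrArg (r ^ p * ·) e2.symm

include hφ in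
/-- A split Frobenius is bijective on cohomology and its cokernel has none. -/
theorem subsingleton_H_cokernel {k : Type u} [Field k] [CharP k p] [PerfectRing k p]
    [X.Over (Spec (CommRingCat.of k))] [IsProper (X ↘ Spec (CommRingCat.of k))]
    (s : Coh.toAb (Coh.structureModule X) ⟶ Coh.toAb (Coh.structureModule X)) (hs : φ ≫ s = 𝟙 _) (i : ℕ) :
    Subsingleton (Sheaf.H (cokernel φ) i) := by
  haveI : IsLocallyNoetherian X := CurveRR24.isLocallyNoetherian_of_proper k
  haveI := CurveRR24.finite_HH_of_isCoh k (Coherent.isCoh_structureModule X) i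
  have hGF : ∀ x : Coh.HH X (Coh.structureModule X) i, Sheaf.H.map s i (Sheaf.H.map φ i x) = x := fun x => by
    rw [← Sheaf.H.map_comp_apply, hs, Sheaf.H.map_id_apply]
  have hF := bijective_of_semilinear (k := k) p (Sheaf.H.map φ i) (fun c x => map_frob_smul hφ i c x)
    (Function.LeftInverse.injective hGF)
  let r : cokernel φ ⟶ Coh.toAb (Coh.structureModule X) := cokernel.desc φ (𝟙 _ - s ≫ φ) (by
    rw [Preadditive.comp_sub, reassoc_of% hs, Category.comp_id, sub_self])
  have hr : r ≫ cokernel.π φ = 𝟙 _ := by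
    refine coequalizer.hom_ext ?_
    rw [← Category.assoc, cokernel.π_desc, Preadditive.sub_comp, Category.id_comp, Category.assoc,
      cokernel.condition, comp_zero, sub_zero, Category.comp_id]
  refine subsingleton_of_forall_eq 0 fun z => ?_
  have hz : z = Sheaf.H.map (cokernel.π φ) i (Sheaf.H.map r i z) := by
    rw [← Sheaf.H.map_comp_apply, hr, Sheaf.H.map_id_apply]
  obtain ⟨y, hy⟩ := hF.2 (Sheaf.H.map r i z)
  rw [hz, ← hy, ← Sheaf.H.map_comp_apply, cokernel.condition]
  exact DFunLike.congr_fun (show Sheaf.H.map (0 : Coh.toAb (Coh.structureModule X) ⟶ cokernel φ) i = 0 from by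
    ext w
    simp [Sheaf.H.map]) y

include hφ in
/-- Vanishing cohomology of the cokernel makes the power map bijective. -/
theorem bijective_H_map [IsReduced X] (hB : ∀ j : ℕ, Subsingleton (Sheaf.H (cokernel φ) j)) (i : ℕ) :
    Function.Bijective (Sheaf.H.map φ i) := by
  haveI : Mono φ := Sheaf.mono_of_injective φ fun U a b h => by
    let a' : Γ(X, U.unop) := a
    let b' : Γ(X, U.unop) := b
    have h' : a' ^ p = b' ^ p := (hφ U.unop a').symm.trans (h.trans (hφ U.unop b'))
    refine sub_eq_zero.1 (IsReduced.eq_zero (a' - b') ⟨p, ?_⟩)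
    rw [← hφ U.unop (a' - b')]
    refine (map_sub (φ.hom.app U).hom a' b').trans ?_
    exact sub_eq_zero.2 h
  let S : ShortComplex _ := ShortComplex.mk φ (cokernel.π φ) (cokernel.condition φ)
  have hS : S.ShortExact := { exact := S.exact_of_g_is_cokernel (cokernelIsCokernel φ) }
  refine ⟨?_, fun x => ?_⟩
  · rw [injective_iff_map_eq_zero]
    intro x hx
    rcases i with _ | n
    · exact Abelian.Ext.postcomp_mk₀_injective_of_mono _ φ (hx.trans (map_zero _).symm)
    · obtain ⟨y, rfl⟩ := Abelian.Ext.covariant_sequence_exact₁ _ hS x hx rfl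
      rw [Subsingleton.elim y 0]
      simp
  · obtain ⟨y, hy⟩ := Abelian.Ext.covariant_sequence_exact₂ _ hS x (Subsingleton.elim _ _)
    exact ⟨y, hy⟩

end Groth.Agent.Frob15
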