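import Mathlib

/-! Finite Frobenius height of an augmented algebra of finite type. -/

set_option autoImplicit false

universe u

open TensorProduct

namespace Groth.Agent.Frob15

theorem finite_height_iff (p : ℕ) [hp : Fact p.Prime] (R : Type u) [CommRing R] [IsNoetherianRing R]
    (A : Type u) [CommRing A] [Algebra R A] [Algebra.FiniteType R A] (ε : A →ₐ[R] R) :
    (∃ n : ℕ, ∀ a : A, ε a = 0 → a ^ p ^ n = 0) ↔
      (Module.Finite R A ∧ ∀ (K : Type u) [Field K] [IsAlgClosed K] [Algebra R K], IsLocalRing (K ⊗[R] A)) := by
  have hdec : ∀ a : A, ε (a - algebraMap R A (ε a)) = 0 := fun a => by simp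
  constructor
  · rintro ⟨n, hn⟩
    constructor
    · haveI : Algebra.IsIntegral R A := ⟨fun a => by
        have h1 : IsNilpotent (a - algebraMap R A (ε a)) := ⟨_, hn _ (hdec a)⟩
        have h2 : IsIntegral R (a - algebraMap R A (ε a)) := by
          refine IsIntegral.of_pow (pow_pos hp.out.pos n) ?_
          rw [hn _ (hdec a)]
          exact isIntegral_zero
        simpa using h2.add (isIntegral_algebraMap (x := ε a))⟩
      exact Algebra.IsIntegral.finite
    · intro K _ _ _
      let εK : K ⊗[R] A →ₐ[K] K :=
        Algebra.TensorProduct.lift (AlgHom.id K K) ((Algebra.ofId R K).comp ε) fun _ _ => Commute.all _ _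
      have hnil : ∀ x, εK x = 0 → IsNilpotent x := by
        intro x
        suffices h : IsNilpotent (x - algebraMap K (K ⊗[R] A) (εK x)) by
          intro hx
          simpa [hx] using h
        induction x using TensorProduct.induction_on with
        | zero => simp
        | add x y hx hy =>
          rw [map_add, map_add, add_sub_add_comm]
          exact (Commute.all _ _).isNilpotent_add hx hy
        | tmul c a =>
          have : c ⊗ₜ[R] a - algebraMap K (K ⊗[R] A) (εK (c ⊗ₜ[R] a)) = c ⊗ₜ[R] (a - algebraMap R A (ε a)) := by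
            rw [TensorProduct.tmul_sub]
            congr 1
            show (c * algebraMap R K (ε a)) ⊗ₜ[R] (1 : A) = _
            rw [mul_comm, ← Algebra.smul_def, TensorProduct.smul_tmul, ← Algebra.algebraMap_eq_smul_one]
          rw [this]
          exact ⟨p ^ n, by rw [Algebra.TensorProduct.tmul_pow, hn _ (hdec a), TensorProduct.tmul_zero]⟩
      haveI : Nontrivial (K ⊗[R] A) := εK.toRingHom.domain_nontrivial
      refine IsLocalRing.of_isUnit_or_isUnit_one_sub_self fun x => ?_
      have hu : ∀ x, εK x ≠ 0 → IsUnit x := fun x hx => by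
        have h : IsNilpotent (x - algebraMap K (K ⊗[R] A) (εK x)) := hnil _ (by rw [map_sub, AlgHom.commutes]; exact sub_self _)
        have := h.isUnit_add_left_of_commute ((isUnit_iff_ne_zero.2 hx).map (algebraMap K (K ⊗[R] A))) (Commute.all _ _)
        simpa using this
      by_cases hx : εK x = 0
      · exact Or.inr (hu _ (by simp [hx]))
      · exact Or.inl (hu x hx)
  · rintro ⟨hfin, hloc⟩
    haveI : IsNoetherianRing A := Algebra.FiniteType.isNoetherianRing R A
    let I : Ideal A := RingHom.ker ε
    have hI : I ≤ nilradical A := by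
      intro a ha
      rw [nilradical_eq_sInf, Ideal.mem_sInf]
      intro P hP
      haveI : P.IsPrime := hP
      let L := AlgebraicClosure (FractionRing (A ⧸ P))
      haveI := hloc L
      let χ : A →ₐ[R] L := IsScalarTower.toAlgHom R A L
      let e1 : L ⊗[R] A →ₐ[L] L :=
        Algebra.TensorProduct.lift (AlgHom.id L L) ((Algebra.ofId R L).comp ε) fun _ _ => Commute.all _ _
      let e2 : L ⊗[R] A →ₐ[L] L := Algebra.TensorProduct.lift (AlgHom.id L L) χ fun _ _ => Commute.all _ _
      have h1 : ¬IsUnit ((1 : L) ⊗ₜ[R] a) := fun h => by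
        have := h.map e1
        simp [e1, show ε a = 0 from ha] at this
      have h2 : χ a = 0 := by
        by_contra hne
        have h3 : IsUnit ((1 : L) ⊗ₜ[R] a) := by
          have hm : ((1 : L) ⊗ₜ[R] a) ∈ IsLocalRing.maximalIdeal (L ⊗[R] A) := h1
          have hker : RingHom.ker e2 = IsLocalRing.maximalIdeal (L ⊗[R] A) :=
            IsLocalRing.eq_maximalIdeal (RingHom.ker_isMaximal_of_surjective e2 fun c => ⟨algebraMap L _ c, e2.commutes c⟩)
          rw [← hker, RingHom.mem_ker] at hm
          simp [e2, hne] at hm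
        exact h1 h3
      have h4 : algebraMap (A ⧸ P) L (Ideal.Quotient.mk P a) = 0 := by
        rw [← h2]
        exact (IsScalarTower.algebraMap_apply A (A ⧸ P) L a).symm
      rw [← Ideal.Quotient.eq_zero_iff_mem]
      rw [IsScalarTower.algebraMap_apply (A ⧸ P) (FractionRing (A ⧸ P)) L] at h4
      exact IsFractionRing.injective (A ⧸ P) (FractionRing (A ⧸ P)) (((algebraMap _ L).injective (h4.trans (map_zero _).symm)).trans (map_zero _).symm)
    obtain ⟨N, hN⟩ := (Ideal.FG.isNilpotent_iff_le_nilradical (IsNoetherian.noetherian I)).2 hI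
    refine ⟨N, fun a ha => ?_⟩
    have h := Ideal.pow_mem_pow (show a ∈ I from ha) N
    rw [hN] at h
    exact pow_eq_zero_of_le (Nat.lt_pow_self hp.out.one_lt).le h

end Groth.Agent.Frob15
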