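import Mathlib

/-! The image of a high relative Frobenius is geometrically reduced. -/

set_option autoImplicit false

universe u

open TensorProduct

namespace Groth.Agent.Frob15

theorem exists_isGeometricallyReduced_adjoin_pow (k : Type u) [Field k] (p : ℕ) [hp : Fact p.Prime] [CharP k p]
    (R : Type u) [CommRing R] [Algebra k R] [Algebra.FiniteType k R] :
    ∃ n : ℕ, Algebra.IsGeometricallyReduced k ↥(Algebra.adjoin k (Set.range (fun x : R => x ^ (p ^ n)))) := by
  let K := AlgebraicClosure k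
  haveI : CharP K p := charP_of_injective_algebraMap (algebraMap k K).injective p
  let S := K ⊗[k] R
  haveI : IsNoetherianRing S := Algebra.FiniteType.isNoetherianRing K S
  obtain ⟨n, hn⟩ := IsNoetherianRing.isNilpotent_nilradical S
  refine ⟨n, (Algebra.isGeometricallyReduced_field_iff k _).2 ?_⟩
  set A := Algebra.adjoin k (Set.range (fun x : R => x ^ (p ^ n))) with hA
  let ψ : K ⊗[k] A →ₐ[k] S := Algebra.TensorProduct.map (AlgHom.id k K) A.val
  have hψ : Function.Injective ψ :=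
    Module.Flat.lTensor_preserves_injective_linearMap (R := k) (M := K) A.val.toLinearMap Subtype.val_injective
  have hpS : (p : S) = 0 := by rw [← map_natCast (algebraMap K S), CharP.cast_eq_zero, map_zero]
  have hadd : ∀ (m : ℕ) (x y : S), (x + y) ^ p ^ m = x ^ p ^ m + y ^ p ^ m := by
    intro m
    induction m with
    | zero => intro x y; simp
    | succ m ih =>
      intro x y
      obtain ⟨r, hr⟩ := exists_add_pow_prime_eq hp.out (x ^ p ^ m) (y ^ p ^ m)
      rw [pow_succ, pow_mul, pow_mul, pow_mul, ih, hr, hpS, zero_mul, zero_mul, zero_mul, add_zero]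
  have hconst : ∀ c : K, ∃ x : S, x ^ p ^ n = c ⊗ₜ[k] (1 : R) := fun c => by
    obtain ⟨d, hd⟩ := IsAlgClosed.exists_pow_nat_eq c (pow_pos hp.out.pos n)
    exact ⟨d ⊗ₜ[k] (1 : R), by rw [Algebra.TensorProduct.tmul_pow, hd, one_pow]⟩
  have hpowA : ∀ a ∈ A, ∃ x : S, x ^ p ^ n = (1 : K) ⊗ₜ[k] a := by
    intro a ha
    induction ha using Algebra.adjoin_induction with
    | mem y hy =>
      obtain ⟨r, rfl⟩ := hy
      exact ⟨(1 : K) ⊗ₜ[k] r, by rw [Algebra.TensorProduct.tmul_pow, one_pow]⟩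
    | algebraMap c =>
      obtain ⟨x, hx⟩ := hconst (algebraMap k K c)
      exact ⟨x, by rw [hx, Algebra.algebraMap_eq_smul_one, Algebra.algebraMap_eq_smul_one, TensorProduct.smul_tmul]⟩
    | add y z _ _ hy hz =>
      obtain ⟨x, hx⟩ := hy
      obtain ⟨x', hx'⟩ := hz
      exact ⟨x + x', by rw [hadd, hx, hx', TensorProduct.tmul_add]⟩
    | mul y z _ _ hy hz =>
      obtain ⟨x, hx⟩ := hy
      obtain ⟨x', hx'⟩ := hz
      exact ⟨x * x', by rw [mul_pow, hx, hx', Algebra.TensorProduct.tmul_mul_tmul, one_mul]⟩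
  have hpow : ∀ z, ∃ x : S, x ^ p ^ n = ψ z := by
    intro z
    induction z using TensorProduct.induction_on with
    | zero => exact ⟨0, by rw [map_zero, zero_pow (pow_pos hp.out.pos n).ne']⟩
    | add y z hy hz =>
      obtain ⟨x, hx⟩ := hy
      obtain ⟨x', hx'⟩ := hz
      exact ⟨x + x', by rw [hadd, hx, hx', map_add]⟩
    | tmul c a =>
      obtain ⟨x, hx⟩ := hconst c
      obtain ⟨x', hx'⟩ := hpowA a.1 a.2
      refine ⟨x * x', ?_⟩
      rw [mul_pow, hx, hx', Algebra.TensorProduct.tmul_mul_tmul, mul_one, one_mul]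
      rfl
  refine ⟨fun z ⟨m, hm⟩ => hψ ?_⟩
  obtain ⟨x, hx⟩ := hpow z
  have hx0 : x ∈ nilradical S := mem_nilradical.2 ⟨p ^ n * m, by rw [pow_mul, hx, ← map_pow, hm, map_zero]⟩
  have hxn := Ideal.pow_mem_pow hx0 n
  rw [hn] at hxn
  rw [map_zero, ← hx]
  exact pow_eq_zero_of_le (Nat.lt_pow_self hp.out.one_lt).le hxn

end Groth.Agent.Frob15
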