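import Mathlib

/-! The coefficient of `t ^ (p - 1)` in a Jacobian determinant in characteristic `p` vanishes. -/

set_option autoImplicit false

universe u w

namespace Groth.Agent.Frob15

open MvPolynomial

theorem coeff_jacobian_det_eq_zero (p : ℕ) [Fact p.Prime] (R : Type u) [CommRing R] [CharP R p]
    {m : ℕ} (hm : 0 < m) (σ : Type w) (f : Fin m → MvPolynomial (Fin m ⊕ σ) R) :
    MvPolynomial.coeff
        (Finsupp.sumElim (Finsupp.equivFunOnFinite.symm fun _ : Fin m => p - 1) (0 : σ →₀ ℕ))
        (Matrix.of fun i j : Fin m => MvPolynomial.pderiv (Sum.inl j) (f i)).det = 0 := by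
  classical
  set M : (Fin m ⊕ σ) →₀ ℕ :=
    Finsupp.sumElim (Finsupp.equivFunOnFinite.symm fun _ : Fin m => p - 1) (0 : σ →₀ ℕ) with hM
  set one : (Fin m ⊕ σ) →₀ ℕ := ∑ j : Fin m, Finsupp.single (Sum.inl j) 1 with hone
  let D : MvPolynomial (Fin m ⊕ σ) R →ₗ[R] (Fin m → MvPolynomial (Fin m ⊕ σ) R) :=
    LinearMap.pi fun j => (MvPolynomial.pderiv (Sum.inl j)).toLinearMap
  let Φ : MultilinearMap R (fun _ : Fin m => MvPolynomial (Fin m ⊕ σ) R) R :=
    (MvPolynomial.lcoeff R M).compMultilinearMap
      (((Matrix.detRowAlternating (n := Fin m) (R := MvPolynomial (Fin m ⊕ σ) R)).toMultilinearMap.restrictScalars R).compLinearMap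
        fun _ => D)
  suffices h : Φ = 0 from DFunLike.congr_fun h f
  refine Module.Basis.ext_multilinear (fun _ => MvPolynomial.basisMonomials (Fin m ⊕ σ) R) fun a => ?_
  show MvPolynomial.coeff M (Matrix.det (Matrix.of fun i j : Fin m =>
    MvPolynomial.pderiv (Sum.inl j) (MvPolynomial.basisMonomials (Fin m ⊕ σ) R (a i)))) = 0
  simp only [MvPolynomial.coe_basisMonomials]
  set A : Matrix (Fin m) (Fin m) R := Matrix.of fun i j => ((a i (Sum.inl j) : ℕ) : R) with hA
  have key : (∏ j : Fin m, X (Sum.inl j)) *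
      Matrix.det (Matrix.of fun i j : Fin m => pderiv (Sum.inl j) (monomial (a i) (1 : R))) =
      monomial (∑ i, a i) A.det := by
    rw [← Matrix.det_mul_row]
    have h1 : (Matrix.of fun i j => X (Sum.inl j) *
        (Matrix.of fun i j : Fin m => pderiv (Sum.inl j) (monomial (a i) (1 : R))) i j) =
        Matrix.of fun i j => monomial (a i) 1 * C (A i j) := by
      ext i j : 1
      simp only [Matrix.of_apply, hA, pderiv_monomial, one_mul]
      rw [X, monomial_mul, one_mul, mul_comm, C_mul_monomial, mul_one]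
      rcases Nat.eq_zero_or_pos (a i (Sum.inl j)) with h0 | h0
      · simp [h0]
      · congr 1
        exact congrArg _ (add_tsub_cancel_of_le (Finsupp.single_le_iff.2 h0))
    rw [h1, Matrix.det_mul_column, ← monomial_sum_one]
    rw [show Matrix.det (fun i j => (C (σ := Fin m ⊕ σ)) (A i j)) =
      ((C (σ := Fin m ⊕ σ) (R := R)).mapMatrix A).det from rfl, ← RingHom.map_det, mul_comm, C_mul_monomial, mul_one]
  have hX : (∏ j : Fin m, X (R := R) (σ := Fin m ⊕ σ) (Sum.inl j)) = monomial one 1 := by
    rw [hone, monomial_sum_one]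
    rfl
  have h3 := congrArg (coeff (one + M)) key
  rw [hX, coeff_monomial_mul, one_mul] at h3
  rw [h3, coeff_monomial]
  split_ifs with hsum
  · -- every column sum is divisible by `p`
    have hcol : ∀ j, ∑ i, A i j = 0 := fun j => by
      have h4 := DFunLike.congr_fun hsum (Sum.inl j)
      rw [Finsupp.finsetSum_apply, Finsupp.add_apply, hone, Finsupp.finsetSum_apply] at h4
      simp only [Finsupp.single_apply, Sum.inl.injEq, Finset.sum_ite_eq', Finset.mem_univ, if_true,
        hM, Finsupp.sumElim_inl, Finsupp.coe_equivFunOnFinite_symm] at h4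
      rw [Nat.add_comm, Nat.sub_add_cancel (Fact.out : p.Prime).one_lt.le] at h4
      simp only [hA, Matrix.of_apply]
      rw [← Nat.cast_sum, h4, CharP.cast_eq_zero]
    have h5 := Matrix.det_updateRow_sum A ⟨0, hm⟩ (fun _ => 1)
    simp only [one_smul] at h5
    rw [← h5]
    refine Matrix.det_eq_zero_of_row_eq_zero ⟨0, hm⟩ fun j => ?_
    rw [Matrix.updateRow_self, Finset.sum_apply, hcol]
  · rfl

end Groth.Agent.Frob15
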