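import Mathlib
import Groth.Agent.Misc15.PerfectClosureFlat

/-! Maps between perfect closures: integrality and flatness. -/

set_option autoImplicit false
set_option linter.style.haveILetI false

universe u

namespace Groth.Agent.Frob15

variable (p : ℕ) [Fact p.Prime] {A B A' B' : Type u} [CommRing A] [CommRing B] [CommRing A'] [CommRing B']

theorem isIntegral_of_isPRadical [CharP A p] [CharP A' p] (i : A →+* A') [IsPRadical i p] : i.IsIntegral := by
  intro x
  obtain ⟨n, y, hy⟩ := IsPRadical.pow_mem i p x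
  letI := i.toAlgebra
  exact IsIntegral.of_pow (pow_pos (Fact.out : p.Prime).pos n) (hy ▸ isIntegral_algebraMap)

theorem isHomeomorph_comap_of_isPRadical [CharP A p] [CharP A' p] (i : A →+* A') [IsPRadical i p] :
    IsHomeomorph (PrimeSpectrum.comap i) := by
  refine PrimeSpectrum.isHomeomorph_comap i (fun x => ?_) ((IsPRadical.ker_le i p).trans fun x hx => ?_)
  · obtain ⟨n, y, hy⟩ := IsPRadical.pow_mem i p x
    exact ⟨p ^ n, pow_pos (Fact.out : p.Prime).pos n, y, hy⟩
  · obtain ⟨n, hn⟩ := mem_pNilradical.1 hx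
    exact ⟨p ^ n, hn⟩

variable [CharP A p] [CharP B p] [CharP A' p] [CharP B' p] [PerfectRing A' p] [PerfectRing B' p]
  (φ : A →+* B) (i : A →+* A') (j : B →+* B') [IsPerfectClosure i p] [IsPerfectClosure j p]
  (φ' : A' →+* B')

include p

theorem isIntegral_iff (hφ : φ'.comp i = j.comp φ) : φ.IsIntegral ↔ φ'.IsIntegral := by
  constructor
  · intro h
    have h1 : (φ'.comp i).IsIntegral := hφ ▸ RingHom.IsIntegral.trans φ j h (isIntegral_of_isPRadical p j)
    exact RingHom.IsIntegral.tower_top i φ' h1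
  · intro h b
    obtain ⟨P, hPm, hP⟩ := RingHom.IsIntegral.trans i φ' (isIntegral_of_isPRadical p i) h (j b)
    have h1 : j (P.eval₂ φ b) = 0 := by
      rw [Polynomial.hom_eval₂, ← hφ]
      exact hP
    obtain ⟨n, hn⟩ := mem_pNilradical.1 (IsPRadical.ker_le j p h1)
    exact ⟨P ^ p ^ n, hPm.pow _, by rw [Polynomial.eval₂_pow, hn]⟩

theorem flat_of_flat (hflat : φ.Flat) (hφ : φ'.comp i = j.comp φ) : φ'.Flat := by
  algebraize [φ']
  show Module.Flat A' B'
  refine Module.Flat.iff_forall_isTrivialRelation.2 fun {l r x} hrel => ?_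
  have hex : ∀ k, ∃ (n : ℕ) (a : A), i a = r k ^ p ^ n := fun k => IsPRadical.pow_mem i p (r k)
  have hex' : ∀ k, ∃ (n : ℕ) (b : B), j b = x k ^ p ^ n := fun k => IsPRadical.pow_mem j p (x k)
  choose n a ha using hex
  choose m b hb using hex'
  set N := Finset.univ.sup n + Finset.univ.sup m
  have hn : ∀ k, n k ≤ N := fun k => (Finset.le_sup (f := n) (Finset.mem_univ k)).trans (Nat.le_add_right _ _)
  have hm : ∀ k, m k ≤ N := fun k => (Finset.le_sup (f := m) (Finset.mem_univ k)).trans (Nat.le_add_left _ _)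
  have ha' : ∀ k, i (a k ^ p ^ (N - n k)) = r k ^ p ^ N := fun k => by
    rw [map_pow, ha, ← pow_mul, ← pow_add, Nat.add_sub_cancel' (hn k)]
  have hb' : ∀ k, j (b k ^ p ^ (N - m k)) = x k ^ p ^ N := fun k => by
    rw [map_pow, hb, ← pow_mul, ← pow_add, Nat.add_sub_cancel' (hm k)]
  have h0 : j (∑ k, φ (a k ^ p ^ (N - n k)) * b k ^ p ^ (N - m k)) = 0 := by
    simp only [Algebra.smul_def, RingHom.algebraMap_toAlgebra] at hrel
    calc j (∑ k, φ (a k ^ p ^ (N - n k)) * b k ^ p ^ (N - m k))
        = iterateFrobenius B' p N (∑ k, φ' (r k) * x k) := by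
          rw [map_sum, map_sum]
          refine Finset.sum_congr rfl fun k _ => ?_
          rw [map_mul, hb', ← RingHom.comp_apply j, ← hφ, RingHom.comp_apply, ha', map_pow, iterateFrobenius_def,
            mul_pow]
      _ = 0 := by rw [hrel, map_zero]
  obtain ⟨M, hM⟩ := mem_pNilradical.1 (IsPRadical.ker_le j p h0)
  have hR : ∑ k, φ ((a k ^ p ^ (N - n k)) ^ p ^ M) * (b k ^ p ^ (N - m k)) ^ p ^ M = 0 := by
    rw [← hM, sum_pow_char_pow]
    exact Finset.sum_congr rfl fun k _ => by rw [mul_pow, map_pow]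
  obtain ⟨t, c, y, h1, h2⟩ := Misc15.trivialRelation_of_flat hflat _ _ hR
  let rA := (iterateFrobeniusEquiv A' p (N + M)).symm
  let rB := (iterateFrobeniusEquiv B' p (N + M)).symm
  refine ⟨t, fun k s => rA (i (c k s)), fun s => rB (j (y s)), fun k => ?_, fun s => ?_⟩
  · apply (iterateFrobeniusEquiv B' p (N + M)).injective
    have h3 : ∀ s, φ' (rA (i (c k s))) ^ p ^ (N + M) = j (φ (c k s)) := fun s => by
      have : iterateFrobeniusEquiv A' p (N + M) (rA (i (c k s))) = i (c k s) := RingEquiv.apply_symm_apply _ _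
      rw [iterateFrobeniusEquiv_def] at this
      rw [← map_pow, this, ← RingHom.comp_apply, hφ, RingHom.comp_apply]
    rw [map_sum, iterateFrobeniusEquiv_def, pow_add, pow_mul, ← hb', ← map_pow, h1, map_sum]
    refine Finset.sum_congr rfl fun s _ => ?_
    rw [Algebra.smul_def, map_mul, RingHom.algebraMap_toAlgebra, map_mul, RingEquiv.apply_symm_apply,
      iterateFrobeniusEquiv_def, h3]
  · apply (iterateFrobeniusEquiv A' p (N + M)).injective
    rw [map_sum, map_zero]
    calc ∑ k, iterateFrobeniusEquiv A' p (N + M) (r k * rA (i (c k s)))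
        = ∑ k, i ((a k ^ p ^ (N - n k)) ^ p ^ M * c k s) := by
          refine Finset.sum_congr rfl fun k _ => ?_
          rw [map_mul, RingEquiv.apply_symm_apply, iterateFrobeniusEquiv_def, map_mul, map_pow _ (a k ^ _), ha',
            ← pow_mul, ← pow_add]
      _ = 0 := by rw [← map_sum, h2, map_zero]

theorem faithfullyFlat_of_faithfullyFlat (hflat : φ.FaithfullyFlat) (hφ : φ'.comp i = j.comp φ) :
    φ'.FaithfullyFlat := by
  have hf := flat_of_flat p φ i j φ' hflat.flat hφ
  algebraize [φ']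
  haveI : Module.Flat A' B' := hf
  refine RingHom.faithfullyFlat_algebraMap_iff.2 (Module.FaithfullyFlat.of_comap_surjective fun q => ?_)
  have hB := isHomeomorph_comap_of_isPRadical p j
  have hA := isHomeomorph_comap_of_isPRadical p i
  have hsurj : Function.Surjective (PrimeSpectrum.comap φ) := by
    algebraize [φ]
    exact PrimeSpectrum.comap_surjective_of_faithfullyFlat
  obtain ⟨Q, hQ⟩ := hsurj (PrimeSpectrum.comap i q)
  obtain ⟨Q', rfl⟩ := hB.surjective Q
  refine ⟨Q', hA.injective ?_⟩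
  rw [← hQ, ← PrimeSpectrum.comap_comp_apply, ← PrimeSpectrum.comap_comp_apply]
  exact congrArg (fun f : A →+* B' => PrimeSpectrum.comap f Q') hφ

/-- The radical of a principal ideal of a perfect ring is flat. -/
theorem flat_radical_span_singleton (f : A') : Module.Flat A' (Ideal.span {f}).radical := by
  have hp := (Fact.out : p.Prime)
  refine Module.Flat.iff_forall_isTrivialRelation.2 fun {l r x} hrel => ?_
  have hex : ∀ k, ∃ (n : ℕ) (y : A'), y * f = (x k : A') ^ p ^ n := fun k => by
    obtain ⟨n, hn⟩ := (x k).2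
    exact ⟨n, Ideal.mem_span_singleton'.1 ((Ideal.span {f}).pow_mem_of_pow_mem hn (Nat.lt_pow_self hp.one_lt).le)⟩
  choose n y hy using hex
  set N := Finset.univ.sup n
  let rt := fun (M : ℕ) => (iterateFrobeniusEquiv A' p M).symm
  have hrt : ∀ M z, rt M z ^ p ^ M = z := fun M z => by
    have h : iterateFrobeniusEquiv A' p M (rt M z) = z := RingEquiv.apply_symm_apply _ _
    rwa [iterateFrobeniusEquiv_def] at h
  let e : A' := rt N f
  let g : A' := rt (N + 1) f
  have hge : g ^ p = e := by
    apply (iterateFrobeniusEquiv A' p N).injective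
    rw [iterateFrobeniusEquiv_def, iterateFrobeniusEquiv_def, hrt, ← pow_mul, mul_comm, ← pow_succ, hrt]
  have hg : g ∈ (Ideal.span {f}).radical := ⟨p ^ (N + 1), by rw [hrt]; exact Ideal.mem_span_singleton_self f⟩
  have hxe : ∀ k, ∃ z, (x k : A') = z * e := fun k => by
    refine ⟨rt N (y k ^ p ^ (N - n k) * f ^ (p ^ (N - n k) - 1)), (iterateFrobeniusEquiv A' p N).injective ?_⟩
    have hn : n k ≤ N := Finset.le_sup (f := n) (Finset.mem_univ k)
    have h1 : 1 ≤ p ^ (N - n k) := Nat.one_le_pow _ _ hp.pos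
    rw [map_mul, RingEquiv.apply_symm_apply, RingEquiv.apply_symm_apply, iterateFrobeniusEquiv_def, mul_assoc,
      ← pow_succ, Nat.sub_add_cancel h1, ← mul_pow, hy, ← pow_mul, ← pow_add, Nat.add_sub_cancel' hn]
  choose z hz using hxe
  let w := ∑ k, r k * z k
  have hw : e * w = 0 := by
    have := congrArg (Subtype.val : (Ideal.span {f}).radical → A') hrel
    simp only [AddSubmonoidClass.coe_finsetSum, SetLike.val_smul, smul_eq_mul, ZeroMemClass.coe_zero] at this
    rw [← this, Finset.mul_sum]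
    exact Finset.sum_congr rfl fun k _ => by rw [hz]; ring
  have hgw : g * w = 0 := by
    apply (frobeniusEquiv A' p).injective
    rw [map_zero, frobeniusEquiv_apply, frobenius_def, mul_pow, hge, ← Nat.sub_add_cancel hp.one_le, pow_succ,
      ← mul_assoc, mul_right_comm, hw, zero_mul]
  refine ⟨1, fun k _ => g ^ (p - 1) * z k, fun _ => ⟨g, hg⟩, fun k => Subtype.ext ?_, fun _ => ?_⟩
  · rw [Fin.sum_univ_one, SetLike.val_smul, smul_eq_mul, hz, ← hge]
    show z k * g ^ p = g ^ (p - 1) * z k * g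
    rw [mul_comm (g ^ (p - 1)), mul_assoc, ← pow_succ, Nat.sub_add_cancel hp.one_le]
  · calc ∑ k, r k * (g ^ (p - 1) * z k) = g ^ (p - 1) * w := by
          rw [Finset.mul_sum]; exact Finset.sum_congr rfl fun k _ => by ring
      _ = 0 := by
          rw [← Nat.sub_add_cancel (show 1 ≤ p - 1 by have := hp.two_le; omega), pow_succ, mul_assoc, hgw, mul_zero]

end Groth.Agent.Frob15
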