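import Mathlib
import Groth.Agent.Frob15.PerfectMap

/-! Finitely presentable objects among perfect algebras are perfectly finitely presented. -/

set_option autoImplicit false
set_option linter.style.haveILetI false

universe u

open CategoryTheory CategoryTheory.Limits

namespace Groth.Agent.Frob15

/-- The property of being a perfect algebra of characteristic `p`. -/
abbrev perfProp (p : ℕ) (B : CommRingCat.{u}) : ObjectProperty (Under B) :=
  fun Y => (p : Y.right) = 0 ∧ Function.Bijective fun y : Y.right => y ^ p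

set_option maxHeartbeats 1000000 in
theorem exists_section_of_system (p : ℕ) (B : CommRingCat.{u})
    (A : (perfProp p B).FullSubcategory) [IsFinitelyPresentable.{u} A]
    (J : Type u) [SemilatticeSup J] [Nonempty J]
    (C : J → Type u) [∀ j, CommRing (C j)] (β : ∀ j, B →+* C j)
    (hp : ∀ j, (p : C j) = 0) (hperf : ∀ j, Function.Bijective fun y : C j => y ^ p)
    (f : ∀ i j, i ≤ j → C i →+* C j) (hfβ : ∀ i j h, (f i j h).comp (β i) = β j)
    (hid : ∀ i h x, f i i h x = x)
    (hcomp : ∀ i j k hij hjk hik x, f j k hjk (f i j hij x) = f i k hik x)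
    (q : ∀ j, C j →+* A.obj.right) (hqβ : ∀ j, (q j).comp (β j) = A.obj.hom.hom)
    (hqf : ∀ i j h x, q j (f i j h x) = q i x)
    (hsurj : ∀ a, ∃ j x, q j x = a)
    (hsep : ∀ j x y, q j x = q j y → ∃ k, ∃ h : j ≤ k, f j k h x = f j k h y) :
    ∃ (j : J) (s : A.obj.right →+* C j), (∀ a, q j (s a) = a) ∧ s.comp A.obj.hom.hom = β j := by
  let D : J ⥤ (perfProp p B).FullSubcategory :=
    { obj := fun j => ⟨Under.mk (CommRingCat.ofHom (β j)), ⟨hp j, hperf j⟩⟩
      map := fun {i j} h => ObjectProperty.homMk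
        (Under.homMk (CommRingCat.ofHom (f i j (leOfHom h))) (CommRingCat.hom_ext (hfβ i j (leOfHom h))))
      map_id := fun i => by
        ext1; ext1
        exact CommRingCat.hom_ext (RingHom.ext fun x => hid i _ x)
      map_comp := fun {i j k} h h' => by
        ext1; ext1
        exact CommRingCat.hom_ext (RingHom.ext fun x => (hcomp i j k _ _ _ x).symm) }
  let c : Cocone D :=
    { pt := A
      ι :=
        { app := fun j => ObjectProperty.homMk
            (Under.homMk (CommRingCat.ofHom (q j)) (CommRingCat.hom_ext (hqβ j)))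
          naturality := fun i j h => by
            ext1; ext1
            exact CommRingCat.hom_ext (RingHom.ext fun x => hqf i j _ x) } }
  -- the descended map
  choose jc xc hxc using hsurj
  have hdesc : ∀ (W : Type u) [CommRing W] (g : ∀ j, C j →+* W), (∀ i j h x, g j (f i j h x) = g i x) →
      ∃ hW : A.obj.right →+* W, ∀ j x, hW (q j x) = g j x := by
    intro W _ g hg
    have hwd : ∀ i x j y, q i x = q j y → g i x = g j y := fun i x j y h => by
      obtain ⟨k, hk, hk'⟩ := hsep (i ⊔ j) (f i _ le_sup_left x) (f j _ le_sup_right y) (by rw [hqf, hqf, h])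
      rw [← hg i _ le_sup_left x, ← hg j _ le_sup_right y, ← hg _ _ hk, hk', hg]
    refine ⟨RingHom.mk' ⟨⟨fun a => g (jc a) (xc a), ?_⟩, ?_⟩ ?_, fun j x => hwd _ _ _ _ (hxc _)⟩
    · exact (hwd _ _ _ 1 ((hxc 1).trans (map_one (q (jc 1))).symm)).trans (map_one _)
    · intro a b
      have h := hwd (jc (a * b)) (xc (a * b)) (jc a ⊔ jc b)
        (f _ _ le_sup_left (xc a) * f _ _ le_sup_right (xc b)) (by rw [map_mul, hqf, hqf, hxc, hxc, hxc])
      rw [map_mul, hg, hg] at h
      exact h
    · intro a b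
      have h := hwd (jc (a + b)) (xc (a + b)) (jc a ⊔ jc b)
        (f _ _ le_sup_left (xc a) + f _ _ le_sup_right (xc b)) (by rw [map_add, hqf, hqf, hxc, hxc, hxc])
      rw [map_add, hg, hg] at h
      exact h
  have hg : ∀ (w : Cocone D) i j h (x : C i),
      (w.ι.app j).hom.right.hom (f i j h x) = (w.ι.app i).hom.right.hom x := fun w i j h x =>
    congrArg (fun φ : D.obj i ⟶ w.pt => φ.hom.right.hom x) (w.w (homOfLE h))
  choose hW hWq using fun w : Cocone D =>
    hdesc w.pt.obj.right (fun j => (w.ι.app j).hom.right.hom) (hg w)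
  have hWhom : ∀ w : Cocone D, (hW w).comp A.obj.hom.hom = w.pt.obj.hom.hom := fun w => by
    obtain ⟨j⟩ := (inferInstance : Nonempty J)
    rw [← hqβ j]
    refine RingHom.ext fun b => ?_
    show hW w (q j (β j b)) = _
    rw [hWq]
    exact congrArg (fun φ : B ⟶ w.pt.obj.right => φ.hom b) (Under.w (w.ι.app j).hom)
  let hc : IsColimit c :=
    { desc := fun w => ObjectProperty.homMk
        (Under.homMk (CommRingCat.ofHom (hW w)) (CommRingCat.hom_ext (hWhom w)))
      fac := fun w j => by
        ext1; ext1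
        exact CommRingCat.hom_ext (RingHom.ext fun x => hWq w j x)
      uniq := fun w m hm => by
        ext1; ext1
        refine CommRingCat.hom_ext (RingHom.ext fun a => ?_)
        show m.hom.right.hom a = hW w a
        conv_lhs => rw [← hxc a]
        conv_rhs => rw [← hxc a, hWq]
        exact congrArg (fun φ : D.obj (jc a) ⟶ w.pt => φ.hom.right.hom (xc a)) (hm (jc a)) }
  haveI : IsFiltered J := inferInstance
  obtain ⟨j, s, hs⟩ := IsFinitelyPresentable.exists_hom_of_isColimit hc (𝟙 A)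
  refine ⟨j, s.hom.right.hom, fun a => ?_, ?_⟩
  · exact congrArg (fun φ : A ⟶ A => φ.hom.right.hom a) hs
  · exact RingHom.ext fun b => congrArg (fun φ : B ⟶ (D.obj j).obj.right => φ.hom b) (Under.w s.hom)

/-- The perfect hull of the subring generated by a set. -/
def perfHull (p : ℕ) [hp : Fact p.Prime] {R : Type u} [CommRing R] [CharP R p] (s : Set R) : Subring R where
  carrier := {a | ∃ n, a ^ p ^ n ∈ Subring.closure s}
  one_mem' := ⟨0, by simp⟩
  zero_mem' := ⟨0, by simp⟩
  neg_mem' := by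
    rintro x ⟨n, hn⟩
    refine ⟨n, ?_⟩
    rw [← neg_one_mul, mul_pow]
    exact mul_mem (pow_mem (neg_mem (one_mem _)) _) hn
  mul_mem' := by
    rintro x y ⟨n, hn⟩ ⟨m, hm⟩
    refine ⟨n + m, ?_⟩
    rw [mul_pow, pow_add, pow_mul, mul_comm (p ^ n) (p ^ m), pow_mul]
    exact mul_mem (pow_mem hn _) (pow_mem hm _)
  add_mem' := by
    rintro x y ⟨n, hn⟩ ⟨m, hm⟩
    refine ⟨n + m, ?_⟩
    rw [add_pow_char_pow, pow_add, pow_mul, mul_comm (p ^ n) (p ^ m), pow_mul]
    exact add_mem (pow_mem hn _) (pow_mem hm _)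

theorem exists_mem_of_directed (p : ℕ) (B : CommRingCat.{u})
    (A : (perfProp p B).FullSubcategory) [IsFinitelyPresentable.{u} A]
    (J : Type u) [SemilatticeSup J] [Nonempty J] (C : J → Subring A.obj.right) (hmono : Monotone C)
    (hα : ∀ j b, A.obj.hom.hom b ∈ C j)
    (hroot : ∀ j, ∀ x : A.obj.right, x ^ p ∈ C j → x ∈ C j) (hcov : ∀ a, ∃ j, a ∈ C j) :
    ∃ j, ∀ a, a ∈ C j := by
  have hp0 : ∀ j, (p : C j) = 0 := fun j => Subtype.ext ((map_natCast (C j).subtype p).trans A.property.1)
  have hperf : ∀ j, Function.Bijective fun y : C j => y ^ p := fun j =>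
    ⟨fun x y h => Subtype.ext (A.property.2.1 (congrArg Subtype.val h)), fun y => by
      obtain ⟨x, hx⟩ := A.property.2.2 y.1
      exact ⟨⟨x, hroot j x ((show x ^ p = y.1 from hx) ▸ y.2)⟩, Subtype.ext hx⟩⟩
  obtain ⟨j, sec, hsec, -⟩ := exists_section_of_system p B A J (fun j => C j)
    (fun j => A.obj.hom.hom.codRestrict (C j) (hα j)) hp0 hperf
    (fun i j h => Subring.inclusion (hmono h)) (fun i j h => RingHom.ext fun b => Subtype.ext rfl)
    (fun i h x => Subtype.ext rfl) (fun i j k hij hjk hik x => Subtype.ext rfl) (fun j => (C j).subtype)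
    (fun j => RingHom.ext fun b => rfl) (fun i j h x => rfl)
    (fun a => (hcov a).elim fun j hj => ⟨j, ⟨a, hj⟩, rfl⟩)
    (fun j x y h => ⟨j, le_rfl, congrArg _ (Subtype.ext h)⟩)
  exact ⟨j, fun a => (show (sec a).1 = a from hsec a) ▸ (sec a).2⟩

theorem exists_finset_generates (p : ℕ) [hp : Fact p.Prime] (B : CommRingCat.{u})
    (A : (perfProp p B).FullSubcategory) [IsFinitelyPresentable.{u} A] [CharP A.obj.right p] :
    ∃ S : Finset A.obj.right, ∀ a : A.obj.right, ∃ n,
      a ^ p ^ n ∈ Subring.closure (Set.range A.obj.hom.hom ∪ ↑S) := by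
  classical
  obtain ⟨S, hS⟩ := exists_mem_of_directed p B A (Finset A.obj.right)
    (fun S => perfHull p (Set.range A.obj.hom.hom ∪ ↑S))
    (fun S T h a ⟨n, hn⟩ => ⟨n, Subring.closure_mono (Set.union_subset_union_right _ (Finset.coe_subset.2 h)) hn⟩)
    (fun S b => ⟨0, Subring.subset_closure (Or.inl ⟨b, by simp⟩)⟩)
    (fun S x ⟨n, hn⟩ => ⟨n + 1, by rw [pow_succ', pow_mul]; exact hn⟩)
    (fun a => ⟨{a}, 0, Subring.subset_closure (Or.inr (by simp))⟩)
  exact ⟨S, hS⟩

theorem exists_quotient_section (p : ℕ) [hp : Fact p.Prime] (B : CommRingCat.{u})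
    (A : (perfProp p B).FullSubcategory) [IsFinitelyPresentable.{u} A] [_root_.IsReduced A.obj.right]
    (Q : Type u) [CommRing Q] [CharP Q p] (hQ : Function.Bijective fun y : Q => y ^ p)
    (γ : B →+* Q) (q : Q →+* A.obj.right) (hqγ : q.comp γ = A.obj.hom.hom) (hq : Function.Surjective q) :
    ∃ T : Finset Q, (∀ t ∈ T, q t = 0) ∧
      ∃ s : A.obj.right →+* Q ⧸ (Ideal.span (T : Set Q)).radical,
        (∀ a x, Ideal.Quotient.mk _ x = s a → q x = a) ∧
          s.comp A.obj.hom.hom = (Ideal.Quotient.mk _).comp γ := by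
  classical
  let rel : Finset (RingHom.ker q) → Ideal Q := fun T => (Ideal.span ((T.image Subtype.val : Finset Q) : Set Q)).radical
  have hrelK : ∀ T, rel T ≤ RingHom.ker q := fun T => by
    refine fun x ⟨n, hn⟩ => ?_
    have hle : Ideal.span ((T.image Subtype.val : Finset Q) : Set Q) ≤ RingHom.ker q := Ideal.span_le.2 (by
      intro t ht
      rw [Finset.mem_coe, Finset.mem_image] at ht
      obtain ⟨t, -, rfl⟩ := ht
      exact t.2)
    have h := hle hn
    rw [RingHom.mem_ker, map_pow] at h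
    exact IsNilpotent.eq_zero (R := A.obj.right) (x := q x) ⟨n, h⟩
  have hmono : ∀ T T', T ≤ T' → rel T ≤ rel T' := fun T T' h =>
    Ideal.radical_mono (Ideal.span_mono (Finset.coe_subset.2 (Finset.image_subset_image h)))
  have hp0 : ∀ T, (p : Q ⧸ rel T) = 0 := fun T => by
    rw [← map_natCast (Ideal.Quotient.mk (rel T)), CharP.cast_eq_zero, map_zero]
  have hperf : ∀ T, Function.Bijective fun y : Q ⧸ rel T => y ^ p := fun T =>
    ⟨fun x y h => by
      obtain ⟨x, rfl⟩ := Ideal.Quotient.mk_surjective x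
      obtain ⟨y, rfl⟩ := Ideal.Quotient.mk_surjective y
      simp only [← map_pow, Ideal.Quotient.eq] at h
      rw [← sub_pow_char] at h
      rw [Ideal.Quotient.eq]
      exact (Ideal.radical_isRadical _) ⟨p, h⟩, fun y => by
      obtain ⟨y, rfl⟩ := Ideal.Quotient.mk_surjective y
      obtain ⟨x, hx⟩ := hQ.2 y
      exact ⟨Ideal.Quotient.mk _ x, by simp only [← map_pow]; exact congrArg _ hx⟩⟩
  let qT : ∀ T, Q ⧸ rel T →+* A.obj.right := fun T => Ideal.Quotient.lift (rel T) q fun x hx => hrelK T hx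
  have hqTmk : ∀ T x, qT T (Ideal.Quotient.mk (rel T) x) = q x := fun T x => rfl
  have hqTβ : ∀ T, (qT T).comp ((Ideal.Quotient.mk (rel T)).comp γ) = A.obj.hom.hom := fun T => by
    rw [← hqγ]
    exact RingHom.ext fun b => hqTmk T (γ b)
  have hsurj : ∀ a, ∃ T x, qT T x = a := fun a =>
    (hq a).elim fun x hx => ⟨∅, Ideal.Quotient.mk _ x, hx⟩
  have hsep : ∀ T x y, qT T x = qT T y →
      ∃ T', ∃ h : T ≤ T', Ideal.Quotient.factor (hmono T T' h) x = Ideal.Quotient.factor (hmono T T' h) y :=
    fun T x y h => by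
      obtain ⟨x, rfl⟩ := Ideal.Quotient.mk_surjective x
      obtain ⟨y, rfl⟩ := Ideal.Quotient.mk_surjective y
      rw [hqTmk, hqTmk, ← sub_eq_zero, ← map_sub] at h
      refine ⟨insert ⟨x - y, h⟩ T, Finset.subset_insert _ _, ?_⟩
      rw [Ideal.Quotient.factor_mk, Ideal.Quotient.factor_mk, Ideal.Quotient.eq]
      exact Ideal.le_radical (Ideal.subset_span (Finset.mem_coe.2
        (Finset.mem_image.2 ⟨⟨x - y, h⟩, Finset.mem_insert_self _ _, rfl⟩)))
  obtain ⟨T, s, hs, hsα⟩ := exists_section_of_system p B A (Finset (RingHom.ker q)) (fun T => Q ⧸ rel T)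
    (fun T => (Ideal.Quotient.mk (rel T)).comp γ) hp0 hperf
    (fun T T' h => Ideal.Quotient.factor (hmono T T' h))
    (fun T T' h => by rw [← RingHom.comp_assoc, Ideal.Quotient.factor_comp_mk])
    (fun T h x => by obtain ⟨x, rfl⟩ := Ideal.Quotient.mk_surjective x; rw [Ideal.Quotient.factor_mk])
    (fun T T' T'' h h' h'' x => by
      obtain ⟨x, rfl⟩ := Ideal.Quotient.mk_surjective x
      rw [Ideal.Quotient.factor_mk, Ideal.Quotient.factor_mk, Ideal.Quotient.factor_mk])
    qT hqTβ
    (fun T T' h x => by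
      obtain ⟨x, rfl⟩ := Ideal.Quotient.mk_surjective x
      rw [Ideal.Quotient.factor_mk, hqTmk, hqTmk])
    hsurj hsep
  refine ⟨T.image Subtype.val, fun t ht => ?_, s, fun a x h => ?_, hsα⟩
  · obtain ⟨t, -, rfl⟩ := Finset.mem_image.1 ht
    exact t.2
  · have h' := hs a
    rwa [← h, hqTmk] at h'

set_option maxHeartbeats 1000000 in
theorem exists_finitePresentation_isPRadical (p : ℕ) [hp : Fact p.Prime] (B : CommRingCat.{u})
    [CharP B p] [PerfectRing B p]
    (A : (perfProp p B).FullSubcategory) [IsFinitelyPresentable.{u} A] :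
    ∃ (A₀ : Type u) (_ : CommRing A₀) (_ : Algebra B A₀) (_ : Algebra.FinitePresentation B A₀)
      (k : A₀ →+* A.obj.right), k.comp (algebraMap B A₀) = A.obj.hom.hom ∧ IsPRadical k p := by
  classical
  set α : B →+* A.obj.right := A.obj.hom.hom with hα
  obtain ⟨hpA, hperfA⟩ := A.property
  rcases subsingleton_or_nontrivial A.obj.right with hA | hA
  · haveI : Algebra.FinitePresentation B (B ⧸ (⊤ : Ideal B)) := Algebra.FinitePresentation.quotient ⟨{1}, by simp⟩
    let e : (B ⧸ (⊤ : Ideal B)) →+* A.obj.right :=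
      Ideal.Quotient.lift ⊤ α fun _ _ => Subsingleton.elim _ _
    refine ⟨B ⧸ (⊤ : Ideal B), inferInstance, inferInstance, inferInstance, e,
      RingHom.ext fun b => Subsingleton.elim _ _, ⟨fun x => ⟨0, 0, Subsingleton.elim _ _⟩, fun x _ => ?_⟩⟩
    haveI : Subsingleton (B ⧸ (⊤ : Ideal B)) := Ideal.Quotient.subsingleton_iff.2 rfl
    rw [Subsingleton.elim x 0]
    exact zero_mem _
  haveI : CharP A.obj.right p := ringChar.of_eq (CharP.ringChar_of_prime_eq_zero hp.out hpA)
  haveI : PerfectRing A.obj.right p := ⟨hperfA⟩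
  obtain ⟨S, hgen⟩ := exists_finset_generates p B A
  -- step 2: finitely many relations
  let P := MvPolynomial (↥S) B
  let φ : P →+* A.obj.right := MvPolynomial.eval₂Hom α fun x => x.1
  let Q := PerfectClosure P p
  let i : P →+* Q := PerfectClosure.of P p
  let q : Q →+* A.obj.right := PerfectClosure.lift P p A.obj.right φ
  have hqi : ∀ z, q (i z) = φ z := fun z =>
    RingHom.congr_fun ((PerfectClosure.lift P p A.obj.right).symm_apply_apply φ) z
  have hcl : Subring.closure (Set.range α ∪ ↑S) ≤ φ.range := Subring.closure_le.2 (by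
    rintro a (⟨b, rfl⟩ | ha)
    · exact ⟨MvPolynomial.C b, MvPolynomial.eval₂Hom_C _ _ _⟩
    · exact ⟨MvPolynomial.X ⟨a, ha⟩, MvPolynomial.eval₂Hom_X' _ _ _⟩)
  have hqsurj : Function.Surjective q := fun a => by
    obtain ⟨n, hn⟩ := hgen a
    obtain ⟨z, hz⟩ := hcl hn
    refine ⟨(iterateFrobeniusEquiv Q p n).symm (i z), (iterateFrobeniusEquiv A.obj.right p n).injective ?_⟩
    rw [iterateFrobeniusEquiv_def, iterateFrobeniusEquiv_def, ← map_pow, ← iterateFrobeniusEquiv_def,
      RingEquiv.apply_symm_apply, hqi, hz]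
  haveI : _root_.IsReduced A.obj.right := ⟨fun x ⟨m, hm⟩ => by
    refine (iterateFrobeniusEquiv A.obj.right p m).injective ?_
    rw [map_zero, iterateFrobeniusEquiv_def]
    exact pow_eq_zero_of_le (Nat.lt_pow_self hp.out.one_lt).le hm⟩
  obtain ⟨T, hT, s, hs, hsα⟩ := exists_quotient_section p B A Q PerfectRing.bijective_frobenius
    (i.comp MvPolynomial.C) q (RingHom.ext fun b => (hqi _).trans (MvPolynomial.eval₂Hom_C _ _ _)) hqsurj
  let rel : Ideal Q := (Ideal.span (T : Set Q)).radical
  -- the relations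
  have he : ∀ x : ↥S, ∃ e : Q, Ideal.Quotient.mk rel e = s x.1 := fun x => Ideal.Quotient.mk_surjective _
  choose e he using he
  have hey : ∀ x : ↥S, ∃ (n : ℕ) (y : P), i y = e x ^ p ^ n := fun x => IsPRadical.pow_mem i p (e x)
  choose n y hy using hey
  have hzt : ∀ t : Q, ∃ (m : ℕ) (z : P), i z = t ^ p ^ m := fun t => IsPRadical.pow_mem i p t
  choose m z hz using hzt
  set N := Finset.univ.sup n with hN
  let y' : ↥S → P := fun x => y x ^ p ^ (N - n x)
  have hy' : ∀ x, i (y' x) = e x ^ p ^ N := fun x => by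
    rw [map_pow, hy, ← pow_mul, ← pow_add, Nat.add_sub_cancel' (Finset.le_sup (Finset.mem_univ x))]
  let rels : Finset P := (Finset.univ.image fun x : ↥S => MvPolynomial.X x ^ p ^ N - y' x) ∪ T.image z
  let I : Ideal P := Ideal.span rels
  have hqe : ∀ x, q (e x) = x.1 := fun x => hs x.1 (e x) (he x)
  have hIker : I ≤ RingHom.ker φ := by
    refine Ideal.span_le.2 fun w hw => ?_
    rw [Finset.mem_coe, Finset.mem_union, Finset.mem_image, Finset.mem_image] at hw
    rw [SetLike.mem_coe, RingHom.mem_ker, ← hqi]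
    rcases hw with ⟨x, -, rfl⟩ | ⟨t, ht, rfl⟩
    · rw [map_sub, map_pow, hy', map_sub, map_pow, map_pow, hqe, hqi, sub_eq_zero]
      congr 1
      exact MvPolynomial.eval₂Hom_X' _ _ _
    · rw [hz, map_pow, hT t ht, zero_pow (pow_pos hp.out.pos _).ne']
  have hnil : ∀ w : P, φ w = 0 → w ∈ I.radical := by
    intro w hw
    let frobB : B →+* B := iterateFrobenius B p N
    let w' : P := MvPolynomial.eval₂ (MvPolynomial.C.comp frobB) y' w
    let E : Q := MvPolynomial.eval₂ (i.comp MvPolynomial.C) e w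
    have hE : E ∈ rel := by
      have h1 : (Ideal.Quotient.mk rel).comp (MvPolynomial.eval₂Hom (i.comp MvPolynomial.C) e) = s.comp φ := by
        refine MvPolynomial.ringHom_ext (fun b => ?_) fun x => ?_
        · simp only [RingHom.comp_apply, MvPolynomial.eval₂Hom_C, φ]
          exact (RingHom.congr_fun hsα b).symm
        · simp only [RingHom.comp_apply, MvPolynomial.eval₂Hom_X', φ, he]
      have h2 : Ideal.Quotient.mk rel E = s (φ w) := RingHom.congr_fun h1 w
      rw [hw, map_zero] at h2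
      exact Ideal.Quotient.eq_zero_iff_mem.1 h2
    have hw' : i w' = E ^ p ^ N := by
      have h1 : i.comp (MvPolynomial.eval₂Hom (MvPolynomial.C.comp frobB) y') =
          (iterateFrobenius Q p N).comp (MvPolynomial.eval₂Hom (i.comp MvPolynomial.C) e) := by
        refine MvPolynomial.ringHom_ext (fun b => ?_) fun x => ?_
        · simp only [RingHom.comp_apply, MvPolynomial.eval₂Hom_C, iterateFrobenius_def, frobB, map_pow]
        · simp only [RingHom.comp_apply, MvPolynomial.eval₂Hom_X', iterateFrobenius_def, hy']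
      have h2 := RingHom.congr_fun h1 w
      rwa [RingHom.comp_apply, RingHom.comp_apply, iterateFrobenius_def] at h2
    have hmod : w ^ p ^ N - w' ∈ I := by
      rw [← Ideal.Quotient.eq]
      have h1 : (Ideal.Quotient.mk I).comp (iterateFrobenius P p N) =
          (Ideal.Quotient.mk I).comp (MvPolynomial.eval₂Hom (MvPolynomial.C.comp frobB) y') := by
        refine MvPolynomial.ringHom_ext (fun b => ?_) fun x => ?_
        · simp only [RingHom.comp_apply, MvPolynomial.eval₂Hom_C, frobB]
          rw [iterateFrobenius_def, iterateFrobenius_def, map_pow, map_pow, map_pow]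
        · simp only [RingHom.comp_apply, MvPolynomial.eval₂Hom_X', iterateFrobenius_def]
          rw [Ideal.Quotient.eq]
          exact Ideal.subset_span (Finset.mem_union_left _ (Finset.mem_image.2 ⟨x, Finset.mem_univ _, rfl⟩))
      have h2 := RingHom.congr_fun h1 w
      rwa [RingHom.comp_apply, RingHom.comp_apply, iterateFrobenius_def] at h2
    have hTI : rel ≤ (I.map i).radical := Ideal.radical_le_radical_iff.2 (Ideal.span_le.2 (by
      intro t ht
      exact ⟨p ^ m t, by
        rw [← hz]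
        exact Ideal.mem_map_of_mem i (Ideal.subset_span (Finset.mem_union_right _ (Finset.mem_image.2 ⟨t, ht, rfl⟩)))⟩))
    have hw'I : w' ∈ I.radical := by
      rw [Ideal.radical_eq_sInf, Ideal.mem_sInf]
      rintro P0 ⟨hP0, hP0'⟩
      haveI := hP0'
      obtain ⟨P1, hP1⟩ := (Groth.Agent.Frob15.isHomeomorph_comap_of_isPRadical p i).surjective ⟨P0, hP0'⟩
      have h1 : P1.asIdeal.comap i = P0 := congrArg PrimeSpectrum.asIdeal hP1
      rw [← h1, Ideal.mem_comap, hw']
      have hmap : (I.map i).radical ≤ P1.asIdeal :=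
        (Ideal.radical_mono (Ideal.map_le_iff_le_comap.2 (h1 ▸ hP0))).trans P1.2.isRadical
      exact Ideal.pow_mem_of_mem _ (hmap (hTI hE)) _ (pow_pos hp.out.pos N)
    obtain ⟨M, hM⟩ : w ^ p ^ N ∈ I.radical := by
      have := I.radical.add_mem (Ideal.le_radical hmod) hw'I
      rwa [sub_add_cancel] at this
    exact ⟨p ^ N * M, by rw [pow_mul]; exact hM⟩
  haveI : Algebra.FinitePresentation B (P ⧸ I) := Algebra.FinitePresentation.quotient ⟨rels, rfl⟩
  refine ⟨P ⧸ I, inferInstance, inferInstance, inferInstance,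
    Ideal.Quotient.lift I φ fun x hx => hIker hx, RingHom.ext fun b => ?_, ⟨fun a => ?_, fun x hx => ?_⟩⟩
  · exact MvPolynomial.eval₂Hom_C _ _ _
  · obtain ⟨n, hn⟩ := hgen a
    obtain ⟨w, hw⟩ := hcl hn
    exact ⟨n, Ideal.Quotient.mk I w, hw⟩
  · obtain ⟨w, rfl⟩ := Ideal.Quotient.mk_surjective x
    have hx : φ w = 0 := hx
    obtain ⟨M, hM⟩ := hnil w hx
    rw [mem_pNilradical]
    exact ⟨M, pow_eq_zero_of_le (Nat.lt_pow_self hp.out.one_lt).le
      (by rw [← map_pow, Ideal.Quotient.eq_zero_iff_mem]; exact hM)⟩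

end Groth.Agent.Frob15
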