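import Mathlib
import Groth.Prelude.Def_Flat
import Groth.Agent.Frob15.PerfectMap
import Groth.Agent.UnivHomeo.Ring
import Groth.Agent.UnivHomeo.Scheme

/-! Universal homeomorphisms in characteristic `p` and bijectivity on perfect closures. -/

set_option autoImplicit false
set_option linter.style.haveILetI false

universe u

open CategoryTheory AlgebraicGeometry

namespace Groth.Agent.Frob15

variable (p : ℕ) [hp : Fact p.Prime]

theorem exists_pow_mem_range_of_rad {A B : Type u} [CommRing A] [CommRing B] [CharP B p] (φ : A →+* B)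
    (hint : φ.IsIntegral) (hrad : UnivHomeo.Rad φ) (b : B) : ∃ (n : ℕ) (a : A), φ a = b ^ p ^ n := by
  let C : Subring B :=
    { carrier := {x | ∃ (n : ℕ) (a : A), φ a = x ^ p ^ n}
      one_mem' := ⟨0, 1, by simp⟩
      zero_mem' := ⟨0, 0, by simp⟩
      neg_mem' := by
        rintro x ⟨n, a, ha⟩
        refine ⟨n, (-1) ^ p ^ n * a, ?_⟩
        rw [map_mul, map_pow, map_neg, map_one, ha, ← mul_pow, neg_one_mul]
      mul_mem' := by
        rintro x y ⟨n, a, ha⟩ ⟨m, c, hc⟩
        exact ⟨n + m, a ^ p ^ m * c ^ p ^ n, by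
          rw [map_mul, map_pow, map_pow, ha, hc, ← pow_mul, ← pow_mul, mul_pow, pow_add, mul_comm (p ^ m)]⟩
      add_mem' := by
        rintro x y ⟨n, a, ha⟩ ⟨m, c, hc⟩
        exact ⟨n + m, a ^ p ^ m + c ^ p ^ n, by
          rw [map_add, map_pow, map_pow, ha, hc, ← pow_mul, ← pow_mul, add_pow_char_pow, pow_add, mul_comm (p ^ m)]⟩ }
  have hroot : ∀ x : B, x ^ p ∈ C → x ∈ C := by
    rintro x ⟨n, a, ha⟩
    exact ⟨n + 1, a, by rw [ha, ← pow_mul, pow_succ']⟩
  have hC : C = ⊤ := by
    refine UnivHomeo.eq_top_of_closed φ C hint hrad (by rintro _ ⟨a, rfl⟩; exact ⟨0, a, by simp⟩) ?_ (Or.inr ?_)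
    · intro x h2 h3
      refine hroot x ?_
      rcases Nat.even_or_odd p with ⟨k, hk⟩ | ⟨k, hk⟩
      · rw [hk, ← two_mul, pow_mul]
        exact pow_mem h2 k
      · obtain ⟨l, rfl⟩ : ∃ l, k = l + 1 := ⟨k - 1, by have := hp.out.two_le; omega⟩
        rw [hk, show 2 * (l + 1) + 1 = 3 + 2 * l by ring, pow_add, pow_mul]
        exact mul_mem h3 (pow_mem h2 l)
    · intro q hq x h1 h2
      rcases eq_or_ne q p with rfl | hne
      · exact hroot x h2
      · obtain ⟨u, v, huv⟩ : IsCoprime (q : ℤ) (p : ℤ) :=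
          Nat.isCoprime_iff_coprime.2 ((Nat.coprime_primes hq hp.out).2 hne)
        have h3 := congrArg (fun z : ℤ => (z : B) * x) huv
        simp only [Int.cast_add, Int.cast_mul, Int.cast_natCast, CharP.cast_eq_zero, mul_zero, add_zero,
          Int.cast_one, one_mul, mul_assoc] at h3
        rw [← h3]
        exact mul_mem (intCast_mem C u) h1
  exact (hC ▸ Subring.mem_top b : b ∈ C)

variable {A B A' B' : Type u} [CommRing A] [CommRing B] [CommRing A'] [CommRing B']
  [CharP A p] [CharP B p] [CharP A' p] [CharP B' p] [PerfectRing A' p] [PerfectRing B' p]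
  (φ : A →+* B) (i : A →+* A') (j : B →+* B') [IsPerfectClosure i p] [IsPerfectClosure j p]
  (φ' : A' →+* B')

include p i j in
theorem isUnivHomeo_iff_bijective (hφ : φ'.comp i = j.comp φ) :
    FlatMor.IsUnivHomeo (Spec.map (CommRingCat.ofHom φ)) ↔ Function.Bijective φ' := by
  rw [UnivHomeo.isUnivHomeo_iff]
  have hcomm : ∀ a, φ' (i a) = j (φ a) := fun a => RingHom.congr_fun hφ a
  constructor
  · rintro ⟨hint, hrad, hker⟩
    refine ⟨(injective_iff_map_eq_zero _).2 fun a' ha' => ?_, fun b' => ?_⟩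
    · obtain ⟨n, a, ha⟩ := IsPRadical.pow_mem i p a'
      have h1 : j (φ a) = 0 := by rw [← hcomm, ha, map_pow, ha', zero_pow (pow_pos hp.out.pos n).ne']
      obtain ⟨m, hm⟩ := mem_pNilradical.1 (IsPRadical.ker_le j p h1)
      obtain ⟨k, hk⟩ := hker (show φ (a ^ p ^ m) = 0 by rw [map_pow, hm])
      have h2 : IsNilpotent a' := ⟨p ^ n * (p ^ m * k), by
        rw [pow_mul, ← ha, ← map_pow, pow_mul, hk, map_zero]⟩
      obtain ⟨M, hM⟩ := h2
      refine (iterateFrobeniusEquiv A' p M).injective ?_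
      rw [map_zero, iterateFrobeniusEquiv_def]
      exact pow_eq_zero_of_le (Nat.lt_pow_self hp.out.one_lt).le hM
    · obtain ⟨n, b, hb⟩ := IsPRadical.pow_mem j p b'
      obtain ⟨m, a, ha⟩ := exists_pow_mem_range_of_rad p φ hint hrad b
      refine ⟨(iterateFrobeniusEquiv A' p (n + m)).symm (i a), (iterateFrobeniusEquiv B' p (n + m)).injective ?_⟩
      rw [iterateFrobeniusEquiv_def, ← map_pow, ← iterateFrobeniusEquiv_def, RingEquiv.apply_symm_apply,
        hcomm, ha, map_pow, hb, iterateFrobeniusEquiv_def, ← pow_mul, ← pow_add]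
  · intro hbij
    have hpow : ∀ b : B, ∃ (n : ℕ) (a : A), φ a = b ^ p ^ n := fun b => by
      obtain ⟨a', ha'⟩ := hbij.2 (j b)
      obtain ⟨n, a, ha⟩ := IsPRadical.pow_mem i p a'
      have h1 : j (φ a - b ^ p ^ n) = 0 := by
        rw [map_sub, ← hcomm, ha, map_pow, ha', map_pow, sub_self]
      obtain ⟨m, hm⟩ := mem_pNilradical.1 (IsPRadical.ker_le j p h1)
      rw [sub_pow_char_pow, sub_eq_zero, ← pow_mul, ← pow_add] at hm
      exact ⟨n + m, a ^ p ^ m, by rw [map_pow, hm]⟩
    refine ⟨?_, ?_, fun a ha => ?_⟩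
    · exact (isIntegral_iff p φ i j φ' hφ).2 (RingHom.IsIntegral.of_finite (RingHom.Finite.of_surjective φ' hbij.2))
    · intro K _ g₁ g₂ hg
      refine RingHom.ext fun b => ?_
      obtain ⟨n, a, ha⟩ := hpow b
      haveI : CharP K p := ringChar.of_eq (CharP.ringChar_of_prime_eq_zero hp.out
        (by rw [← map_natCast g₁, CharP.cast_eq_zero, map_zero]))
      refine iterateFrobenius_inj K p n ?_
      rw [iterateFrobenius_def, iterateFrobenius_def, ← map_pow, ← map_pow, ← ha]
      exact RingHom.congr_fun hg a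
    · have h1 : i a = 0 := hbij.1 (by rw [hcomm, show φ a = 0 from ha, map_zero, map_zero])
      obtain ⟨m, hm⟩ := mem_pNilradical.1 (IsPRadical.ker_le i p h1)
      exact ⟨p ^ m, hm⟩

end Groth.Agent.Frob15
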