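import Mathlib
import Groth.Prelude.Def_WittGrp
import Groth.Prelude.Def_W4c1liftfrobW2
import Groth.Agent.W2Lift.Flat15

/-! Twisted Witt vectors of a (quasi-)Frobenius splitting. -/

set_option autoImplicit false
set_option linter.unusedSectionVars false

universe u

namespace Groth.Agent.Frob15

open WittGrp

variable (p : ℕ) [hp : Fact p.Prime] {m : ℕ} {R : Type u} [CommRing R] (hpR : (p : R) = 0)

include hpR in
theorem natCast_mul_truncated (w : TruncatedWittVector p (m + 1) R) :
    (p : TruncatedWittVector p (m + 1) R) * w =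
      shift p (Nat.le_succ m) (frob p m hpR (TruncatedWittVector.truncate (Nat.le_succ m) w)) := by
  rcases subsingleton_or_nontrivial R with hR | hR
  · exact TruncatedWittVector.ext fun i => Subsingleton.elim _ _
  · haveI : CharP R p := (CharP.charP_iff_prime_eq_zero hp.out).mpr hpR
    obtain ⟨W, rfl⟩ := WittVector.truncate_surjective p (m + 1) R w
    rw [TruncatedWittVector.truncate_wittVector_truncate, frob_truncate, shift_truncate,
      show m.succ - m = 1 by omega, Function.iterate_one, WittVector.verschiebung_frobenius, map_mul, map_natCast,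
      mul_comm]

include hpR in
theorem mul_shift (y : TruncatedWittVector p (m + 1) R) (x : TruncatedWittVector p m R) :
    y * shift p (Nat.le_succ m) x =
      shift p (Nat.le_succ m) (frob p m hpR (TruncatedWittVector.truncate (Nat.le_succ m) y) * x) := by
  rcases subsingleton_or_nontrivial R with hR | hR
  · exact TruncatedWittVector.ext fun i => Subsingleton.elim _ _
  · haveI : CharP R p := (CharP.charP_iff_prime_eq_zero hp.out).mpr hpR
    obtain ⟨Y, rfl⟩ := WittVector.truncate_surjective p (m + 1) R y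
    obtain ⟨X, rfl⟩ := WittVector.truncate_surjective p m R x
    rw [TruncatedWittVector.truncate_wittVector_truncate, frob_truncate, ← map_mul, shift_truncate, shift_truncate,
      show m.succ - m = 1 by omega, Function.iterate_one, ← map_mul, mul_comm _ X, WittVector.verschiebung_mul_frobenius,
      mul_comm]

theorem coeff_zero_shift (x : TruncatedWittVector p m R) :
    (shift p (Nat.le_succ m) x).coeff 0 = 0 := by
  rw [coeff_shift, dif_neg (by simp)]

theorem shift_injective : Function.Injective (shift p (Nat.le_succ m) : TruncatedWittVector p m R → _) := by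
  intro x y h
  refine TruncatedWittVector.ext fun i => ?_
  have h' := congrArg (TruncatedWittVector.coeff i.succ) h
  rw [coeff_shift, coeff_shift, dif_pos (by simp), dif_pos (by simp)] at h'
  convert h' using 2 <;> exact Fin.ext (by simp)

theorem exists_shift_eq (w : TruncatedWittVector p (m + 1) R) (h : w.coeff 0 = 0) :
    ∃ v : TruncatedWittVector p m R, shift p (Nat.le_succ m) v = w := by
  refine ⟨TruncatedWittVector.mk p fun i => w.coeff i.succ, TruncatedWittVector.ext fun i => ?_⟩
  rw [coeff_shift]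
  rcases Fin.eq_zero_or_eq_succ i with rfl | ⟨j, rfl⟩
  · rw [dif_neg (by simp), h]
  · rw [dif_pos (by simp), TruncatedWittVector.coeff_mk]
    congr 1
    exact Fin.ext (by simp)

section

variable (hm : 0 < m) (σ : TruncatedWittVector p m R →+ R) (h1 : σ 1 = 1)
  (hF : ∀ x y : TruncatedWittVector p m R, σ (frob p m hpR x * y) = x.coeff ⟨0, hm⟩ * σ y)

include hF in
theorem mul_shift_ker (y : TruncatedWittVector p (m + 1) R) (x : TruncatedWittVector p m R) (hx : σ x = 0) :
    ∃ x' : TruncatedWittVector p m R, σ x' = 0 ∧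
      y * shift p (Nat.le_succ m) x = shift p (Nat.le_succ m) x' :=
  ⟨_, by rw [hF, hx, mul_zero], mul_shift p hpR y x⟩

include hF in
theorem mem_splitIdeal_iff (I : Ideal (TruncatedWittVector p (m + 1) R))
    (hI : I = Ideal.span (shift p (Nat.le_succ m) '' {x : TruncatedWittVector p m R | σ x = 0}))
    (w : TruncatedWittVector p (m + 1) R) :
    w ∈ I ↔ ∃ x, σ x = 0 ∧ shift p (Nat.le_succ m) x = w := by
  subst hI
  refine ⟨fun hw => ?_, fun ⟨x, hx, hxw⟩ => Ideal.subset_span ⟨x, hx, hxw⟩⟩
  induction hw using Submodule.span_induction with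
  | mem z hz => exact hz
  | zero => exact ⟨0, map_zero _, map_zero _⟩
  | add a b _ _ ha hb =>
    obtain ⟨x, hx, rfl⟩ := ha
    obtain ⟨y, hy, rfl⟩ := hb
    exact ⟨x + y, by rw [map_add, hx, hy, add_zero], map_add _ _ _⟩
  | smul a b _ hb =>
    obtain ⟨x, hx, rfl⟩ := hb
    obtain ⟨x', hx', he⟩ := mul_shift_ker p hpR hm σ hF a x hx
    exact ⟨x', hx', he.symm⟩

include h1 hF in
theorem quotient_mk_mem_span_p_iff (I : Ideal (TruncatedWittVector p (m + 1) R))
    (hI : I = Ideal.span (shift p (Nat.le_succ m) '' {x : TruncatedWittVector p m R | σ x = 0}))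
    (w : TruncatedWittVector p (m + 1) R) :
    Ideal.Quotient.mk I w ∈ Ideal.span ({(p : TruncatedWittVector p (m + 1) R ⧸ I)} : Set _) ↔
      w.coeff 0 = 0 := by
  constructor
  · intro h
    obtain ⟨q, hq⟩ := Ideal.mem_span_singleton'.1 h
    obtain ⟨z, rfl⟩ := Ideal.Quotient.mk_surjective q
    rw [← map_natCast (Ideal.Quotient.mk I), ← map_mul, Ideal.Quotient.eq, mul_comm,
      natCast_mul_truncated p hpR, mem_splitIdeal_iff p hpR hm σ hF I hI] at hq
    obtain ⟨x, -, hx⟩ := hq
    have hw : w = shift p (Nat.le_succ m)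
        (frob p m hpR (TruncatedWittVector.truncate (Nat.le_succ m) z) - x) := by
      rw [map_sub, hx, sub_sub_cancel]
    rw [hw, coeff_zero_shift]
  · intro h
    obtain ⟨v, rfl⟩ := exists_shift_eq p w h
    obtain ⟨t, ht⟩ : ∃ t : TruncatedWittVector p m R, t.coeff ⟨0, hm⟩ = σ v :=
      ⟨TruncatedWittVector.mk p fun _ => σ v, by rw [TruncatedWittVector.coeff_mk]⟩
    obtain ⟨z, rfl⟩ : ∃ z : TruncatedWittVector p (m + 1) R, TruncatedWittVector.truncate (Nat.le_succ m) z = t :=
      (WittVector.truncate_surjective p m R t).elim fun T hT =>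
        ⟨WittVector.truncate (m + 1) T, (TruncatedWittVector.truncate_wittVector_truncate _ _).trans hT⟩
    refine Ideal.mem_span_singleton'.2 ⟨Ideal.Quotient.mk I z, ?_⟩
    rw [← map_natCast (Ideal.Quotient.mk I), ← map_mul, Ideal.Quotient.eq, mul_comm, natCast_mul_truncated p hpR,
      ← map_sub, mem_splitIdeal_iff p hpR hm σ hF I hI]
    refine ⟨_, ?_, rfl⟩
    rw [map_sub, ← mul_one (frob p m hpR _), hF, h1, mul_one, ht, sub_self]

include h1 hF in
theorem mul_p_eq_zero_iff (I : Ideal (TruncatedWittVector p (m + 1) R))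
    (hI : I = Ideal.span (shift p (Nat.le_succ m) '' {x : TruncatedWittVector p m R | σ x = 0}))
    (q : TruncatedWittVector p (m + 1) R ⧸ I) :
    (p : TruncatedWittVector p (m + 1) R ⧸ I) * q = 0 ↔
      q ∈ Ideal.span ({(p : TruncatedWittVector p (m + 1) R ⧸ I)} : Set _) := by
  obtain ⟨w, rfl⟩ := Ideal.Quotient.mk_surjective q
  rw [quotient_mk_mem_span_p_iff p hpR hm σ h1 hF I hI, ← map_natCast (Ideal.Quotient.mk I), ← map_mul,
    Ideal.Quotient.eq_zero_iff_mem, natCast_mul_truncated p hpR, mem_splitIdeal_iff p hpR hm σ hF I hI]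
  have hs : σ (frob p m hpR (TruncatedWittVector.truncate (Nat.le_succ m) w)) = w.coeff 0 := by
    rw [← mul_one (frob p m hpR _), hF, h1, mul_one, TruncatedWittVector.coeff_truncate]
    congr 1
  constructor
  · rintro ⟨x, hx, he⟩
    rw [← hs, ← shift_injective p he, hx]
  · intro h
    exact ⟨_, hs.trans h, rfl⟩

end

/-- The ring of twisted Witt vectors of a Frobenius splitting is a flat lifting. -/
theorem isLift_split (k : Type u) [Field k] [CharP k p] [PerfectRing k p]
    (A : Type u) [CommRing A] [Algebra k A] (φ : A →+ A)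
    (hφ : ∀ a b : A, φ (a ^ p * b) = a * φ b) (hφ1 : φ 1 = 1) :
    FrobAlg.IsLift p k A (FrobAlg.W2 p A ⧸ FrobAlg.splitIdeal p A φ)
      ((Ideal.Quotient.mk (FrobAlg.splitIdeal p A φ)).comp (truncMap p 2 (algebraMap k A)))
      (FrobAlg.splitRes p A φ) := by
  classical
  have hpA : (p : A) = 0 := by rw [← map_natCast (algebraMap k A), CharP.cast_eq_zero, map_zero]
  let c : TruncatedWittVector p 1 A →+ A :=
    { toFun := fun x => φ (x.coeff 0)
      map_zero' := by rw [TruncatedWittVector.coeff_zero, map_zero]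
      map_add' := fun x y => by
        obtain ⟨X, rfl⟩ := WittVector.truncate_surjective p 1 A x
        obtain ⟨Y, rfl⟩ := WittVector.truncate_surjective p 1 A y
        rw [← map_add, WittVector.coeff_truncate, WittVector.coeff_truncate, WittVector.coeff_truncate,
          ← map_add φ, show ((0 : Fin 1) : ℕ) = 0 from rfl, WittVector.add_coeff_zero] }
  have c1 : c 1 = 1 := by
    show φ ((1 : TruncatedWittVector p 1 A).coeff 0) = 1
    rw [← map_one (WittVector.truncate (p := p) (R := A) 1), WittVector.coeff_truncate]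
    show φ ((1 : WittVector p A).coeff 0) = 1
    rw [WittVector.one_coeff_zero, hφ1]
  have cF : ∀ x y : TruncatedWittVector p 1 A, c (frob p 1 hpA x * y) = x.coeff ⟨0, one_pos⟩ * c y := fun x y => by
    obtain ⟨X, hX⟩ := WittVector.truncate_surjective p 1 A (frob p 1 hpA x)
    obtain ⟨Y, rfl⟩ := WittVector.truncate_surjective p 1 A y
    show φ ((frob p 1 hpA x * _).coeff 0) = x.coeff 0 * φ _
    have hx0 : X.coeff 0 = x.coeff 0 ^ p := by
      rw [← coeff_frob p 1 hpA x 0, ← hX, WittVector.coeff_truncate]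
      rfl
    rw [← hX, ← map_mul, WittVector.coeff_truncate, WittVector.coeff_truncate]
    show φ ((X * Y).coeff 0) = x.coeff 0 * φ (Y.coeff 0)
    rw [WittVector.mul_coeff_zero, hx0, hφ]
  have hI : FrobAlg.splitIdeal p A φ = Ideal.span (shift p (Nat.le_succ 1) '' {x | c x = 0}) := by
    refine congrArg Ideal.span (Set.ext fun w => ⟨fun hw => ?_, ?_⟩)
    · obtain ⟨v, rfl⟩ := exists_shift_eq p w (by simpa [FrobAlg.res_apply] using hw.1)
      refine ⟨v, ?_, rfl⟩
      have := hw.2
      rw [coeff_shift, dif_pos (by simp)] at this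
      exact this
    · rintro ⟨v, hv, rfl⟩
      refine ⟨by rw [FrobAlg.res_apply]; exact coeff_zero_shift p v, ?_⟩
      rw [coeff_shift, dif_pos (by simp)]
      exact hv
  set Q := FrobAlg.W2 p A ⧸ FrobAlg.splitIdeal p A φ
  have key := quotient_mk_mem_span_p_iff p hpA one_pos c c1 cF _ hI
  refine ⟨?_, ?_, ?_, ?_⟩
  · letI := ((Ideal.Quotient.mk (FrobAlg.splitIdeal p A φ)).comp (truncMap p 2 (algebraMap k A))).toAlgebra
    show Module.Flat (FrobAlg.W2 p k) Q
    refine W2Lift.flat_of_ann' fun q hq => ?_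
    rw [Algebra.smul_def, map_natCast] at hq
    obtain ⟨r, hr⟩ := Ideal.mem_span_singleton'.1 ((mul_p_eq_zero_iff p hpA one_pos c c1 cF _ hI q).1 hq)
    exact ⟨r, by rw [Algebra.smul_def, map_natCast, ← hr, mul_comm]⟩
  · intro a
    refine ⟨Ideal.Quotient.mk _ (TruncatedWittVector.mk p fun _ => a), ?_⟩
    rw [FrobAlg.splitRes, Ideal.Quotient.lift_mk, FrobAlg.res_apply, TruncatedWittVector.coeff_mk]
  · rw [W2Lift.ker_res, Ideal.map_span, Set.image_singleton, map_natCast]
    ext q
    obtain ⟨w, rfl⟩ := Ideal.Quotient.mk_surjective q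
    rw [key, RingHom.mem_ker, FrobAlg.splitRes, Ideal.Quotient.lift_mk, FrobAlg.res_apply]
  · refine RingHom.ext fun w => ?_
    show FrobAlg.splitRes p A φ (Ideal.Quotient.mk _ (truncMap p 2 (algebraMap k A) w)) = _
    rw [FrobAlg.splitRes, Ideal.Quotient.lift_mk, FrobAlg.res_apply, coeff_truncMap, RingHom.comp_apply,
      FrobAlg.res_apply]

end Groth.Agent.Frob15
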