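import Mathlib
import Groth.Prelude.Def_Frob

/-! Relatively perfect morphisms as cartesian Frobenius squares; Frobenius is an epimorphism from reduced schemes. -/

set_option autoImplicit false

universe u

open CategoryTheory AlgebraicGeometry Limits

namespace Groth.Agent.Frob15

variable (p : ℕ) [Fact p.Prime]

theorem isIso_relFrob_iff_isPullback {X S : Scheme.{u}} [FrobSch.IsCharP S p] [FrobSch.IsCharP X p] (f : X ⟶ S) :
    IsIso (FrobSch.relFrob f p) ↔ IsPullback (FrobSch.frob X p) f f (FrobSch.frob S p) := by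
  constructor
  · intro h
    exact IsPullback.of_iso_pullback ⟨FrobSch.frob_comp p f⟩ (asIso (FrobSch.relFrob f p))
      (FrobSch.relFrob_fst f p) (FrobSch.relFrob_snd f p)
  · intro h
    have e : FrobSch.relFrob f p = h.isoPullback.hom := pullback.hom_ext
      (by rw [FrobSch.relFrob_fst, IsPullback.isoPullback_hom_fst])
      (by rw [FrobSch.relFrob_snd, IsPullback.isoPullback_hom_snd])
    rw [e]
    infer_instance

theorem isIso_relFrob_comp {X T S : Scheme.{u}} [FrobSch.IsCharP S p] [FrobSch.IsCharP T p] (π : X ⟶ T) (f : T ⟶ S)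
    (hπ : IsIso (FrobSch.relFrob π p)) (hf : IsIso (FrobSch.relFrob f p)) :
    IsIso (FrobSch.relFrob (π ≫ f) p) := by
  haveI := FrobSch.IsCharP.of_hom π p
  rw [isIso_relFrob_iff_isPullback] at hπ hf ⊢
  exact hπ.paste_vert hf

theorem isIso_relFrob_snd {Y T S : Scheme.{u}} [FrobSch.IsCharP S p] [FrobSch.IsCharP T p] (r : Y ⟶ S) (f : T ⟶ S)
    (hr : IsIso (FrobSch.relFrob r p)) : IsIso (FrobSch.relFrob (pullback.snd r f) p) := by
  haveI := FrobSch.IsCharP.of_hom r p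
  haveI : FrobSch.IsCharP (pullback r f) p := FrobSch.IsCharP.of_hom (pullback.snd r f) p
  rw [isIso_relFrob_iff_isPullback] at hr ⊢
  have h1 : IsPullback (pullback.fst r f ≫ FrobSch.frob Y p) (pullback.snd r f) r (f ≫ FrobSch.frob S p) :=
    (IsPullback.of_hasPullback r f).paste_horiz hr
  rw [← FrobSch.frob_comp p f, ← FrobSch.frob_comp p (pullback.fst r f)] at h1
  exact h1.of_right (FrobSch.frob_comp p (pullback.snd r f)) (IsPullback.of_hasPullback r f)

theorem coperfection_comp {X X' T S : Scheme.{u}}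
    [FrobSch.IsCharP S p] [FrobSch.IsCharP T p] (f : T ⟶ S) (hf : IsIso (FrobSch.relFrob f p))
    (g : X ⟶ T) (π : X' ⟶ T) (hπ : IsIso (FrobSch.relFrob π p)) (c : X ⟶ X') (hc : c ≫ π = g)
    (huniv : ∀ (Y : Scheme.{u}) (q : Y ⟶ T), IsIso (FrobSch.relFrob q p) →
      ∀ k : X ⟶ Y, k ≫ q = g → ∃! h : X' ⟶ Y, h ≫ q = π ∧ c ≫ h = k) :
    IsIso (FrobSch.relFrob (π ≫ f) p) ∧
      ∀ (Y : Scheme.{u}) (r : Y ⟶ S), IsIso (FrobSch.relFrob r p) →
        ∀ k : X ⟶ Y, k ≫ r = g ≫ f → ∃! h : X' ⟶ Y, h ≫ r = π ≫ f ∧ c ≫ h = k := by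
  refine ⟨isIso_relFrob_comp p π f hπ hf, fun Y r hr k hk => ?_⟩
  obtain ⟨h', ⟨hq, hck⟩, huni⟩ := huniv (pullback r f) (pullback.snd r f) (isIso_relFrob_snd p r f hr)
    (pullback.lift k g hk) (pullback.lift_snd _ _ _)
  refine ⟨h' ≫ pullback.fst r f, ⟨?_, ?_⟩, fun h ⟨h1, h2⟩ => ?_⟩
  · rw [Category.assoc, pullback.condition, ← Category.assoc, hq]
  · rw [← Category.assoc, hck, pullback.lift_fst]
  · have := huni (pullback.lift h π h1) ⟨pullback.lift_snd _ _ _, pullback.hom_ext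
      (by rw [Category.assoc, pullback.lift_fst, pullback.lift_fst, h2])
      (by rw [Category.assoc, pullback.lift_snd, pullback.lift_snd, hc])⟩
    rw [← this, pullback.lift_fst]

theorem eq_of_frob_comp_eq {Y Z : Scheme.{u}} [FrobSch.IsCharP Y p] [IsReduced Y] (g₁ g₂ : Y ⟶ Z)
    (h : FrobSch.frob Y p ≫ g₁ = FrobSch.frob Y p ≫ g₂) : g₁ = g₂ := by
  have hb : g₁.base = g₂.base := by simpa using congrArg (fun q : Y ⟶ Z => q.base) h
  refine Scheme.Hom.ext hb fun U => ?_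
  ext s
  have h1 := ConcreteCategory.congr_hom (Scheme.Hom.congr_app h U) s
  simp only [Scheme.Hom.comp_app] at h1
  have hU : g₁ ⁻¹ᵁ U = g₂ ⁻¹ᵁ U := congrArg (fun b => (TopologicalSpace.Opens.map b).obj U) hb
  change (g₁.app U s) ^ p = Y.presheaf.map (eqToHom hU).op ((g₂.app U s) ^ p) at h1
  change Y.presheaf.map (eqToHom hU.symm).op (g₁.app U s) = g₂.app U s
  have h2 : (Y.presheaf.map (eqToHom hU.symm).op (g₁.app U s)) ^ p = (g₂.app U s) ^ p := by
    rw [← map_pow, h1, ← CommRingCat.comp_apply, ← Functor.map_comp, ← op_comp, eqToHom_trans, eqToHom_refl,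
      op_id, CategoryTheory.Functor.map_id, CommRingCat.id_apply]
  have h3 : FrobSch.powHom p Γ(Y, g₂ ⁻¹ᵁ U) (FrobSch.natCast_eq_zero_app Y p _)
      (Y.presheaf.map (eqToHom hU.symm).op (g₁.app U s) - g₂.app U s) = 0 := by
    rw [map_sub]
    exact sub_eq_zero.2 h2
  exact sub_eq_zero.1 (IsReduced.eq_zero _ ⟨p, h3⟩)

theorem eq_of_relFrob_map_eq {Y Z S : Scheme.{u}} [FrobSch.IsCharP S p] [IsReduced Y] (a : Y ⟶ S) (b : Z ⟶ S)
    (g₁ g₂ : Y ⟶ Z) (e₁ : a ≫ 𝟙 S = g₁ ≫ b) (e₂ : a ≫ 𝟙 S = g₂ ≫ b)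
    (e : FrobSch.frob S p ≫ 𝟙 S = 𝟙 S ≫ FrobSch.frob S p)
    (h : FrobSch.relFrob a p ≫ pullback.map a (FrobSch.frob S p) b (FrobSch.frob S p) g₁ (𝟙 S) (𝟙 S) e₁ e =
      FrobSch.relFrob a p ≫ pullback.map a (FrobSch.frob S p) b (FrobSch.frob S p) g₂ (𝟙 S) (𝟙 S) e₂ e) :
    g₁ = g₂ := by
  haveI := FrobSch.IsCharP.of_hom a p
  refine eq_of_frob_comp_eq p g₁ g₂ ?_
  have := congrArg (fun q => q ≫ pullback.fst b (FrobSch.frob S p)) h
  simp only [Category.assoc, pullback.map, pullback.lift_fst] at this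
  rw [← Category.assoc, ← Category.assoc, FrobSch.relFrob_fst] at this
  exact this

end Groth.Agent.Frob15
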