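import Mathlib

/-! Fitting decomposition of a semilinear endomorphism over a ring automorphism. -/

set_option autoImplicit false

universe u v

namespace Groth.Agent.Frob15

theorem exists_fitting {A : Type u} [CommRing A] {M : Type v} [AddCommGroup M] [Module A M]
    [IsArtinian A M] [IsNoetherian A M] (σ : A ≃+* A) (φ : M →ₛₗ[(σ : A →+* A)] M) :
    ∃ Ms Mn : Submodule A M, IsCompl Ms Mn ∧
      Set.MapsTo φ Ms Ms ∧ Set.MapsTo φ Mn Mn ∧ Set.BijOn φ Ms Ms ∧
      ∃ r : ℕ, ∀ x ∈ Mn, (⇑φ)^[r] x = 0 := by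
  have hsmul : ∀ (n : ℕ) (c : A) (x : M), (⇑φ)^[n] (c • x) = (⇑σ)^[n] c • (⇑φ)^[n] x := by
    intro n
    induction n with
    | zero => intro c x; rfl
    | succ n ih =>
      intro c x
      rw [Function.iterate_succ_apply', ih, φ.map_smulₛₗ, Function.iterate_succ_apply', Function.iterate_succ_apply']
      rfl
  let K : ℕ →o Submodule A M :=
    ⟨fun n =>
      { carrier := {x | (⇑φ)^[n] x = 0}
        add_mem' := fun {x y} hx hy => by
          show (⇑φ)^[n] (x + y) = 0
          rw [iterate_map_add, show (⇑φ)^[n] x = 0 from hx, show (⇑φ)^[n] y = 0 from hy, add_zero]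
        zero_mem' := iterate_map_zero _ _
        smul_mem' := fun c {x} hx => by
          show (⇑φ)^[n] (c • x) = 0
          rw [hsmul, show (⇑φ)^[n] x = 0 from hx, smul_zero] },
      monotone_nat_of_le_succ fun n x (hx : (⇑φ)^[n] x = 0) => by
        show (⇑φ)^[n + 1] x = 0
        rw [Function.iterate_succ_apply', hx, map_zero]⟩
  let I : ℕ →o (Submodule A M)ᵒᵈ :=
    ⟨fun n => OrderDual.toDual
      { carrier := Set.range (⇑φ)^[n]
        add_mem' := by
          rintro _ _ ⟨x, rfl⟩ ⟨y, rfl⟩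
          exact ⟨x + y, iterate_map_add _ _ _ _⟩
        zero_mem' := ⟨0, iterate_map_zero _ _⟩
        smul_mem' := by
          rintro c _ ⟨x, rfl⟩
          exact ⟨(⇑σ.symm)^[n] c • x, by
            rw [hsmul, (Function.LeftInverse.iterate σ.apply_symm_apply n) c]⟩ },
      monotone_nat_of_le_succ fun n => by
        rintro _ ⟨x, rfl⟩
        exact ⟨φ x, (Function.iterate_succ_apply _ _ _).symm⟩⟩
  obtain ⟨a, ha⟩ := monotone_stabilizes_iff_noetherian.2 (inferInstance : IsNoetherian A M) K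
  obtain ⟨b, hb⟩ := IsArtinian.monotone_stabilizes I
  set r := a + b
  have hK : ∀ n, r ≤ n → K n = K r := fun n hn => by
    rw [← ha n (by omega), ← ha r (by omega)]
  have hI : ∀ n, r ≤ n → OrderDual.ofDual (I n) = OrderDual.ofDual (I r) := fun n hn => by
    rw [← hb n (by omega), ← hb r (by omega)]
  refine ⟨OrderDual.ofDual (I r), K r, ⟨disjoint_iff_inf_le.2 ?_, codisjoint_iff_le_sup.2 ?_⟩, ?_, ?_, ⟨?_, ?_, ?_⟩,
    r, fun x hx => hx⟩
  · rintro _ ⟨⟨x, rfl⟩, hx⟩
    have hx' : x ∈ K (r + r) := by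
      show (⇑φ)^[r + r] x = 0
      rw [Function.iterate_add_apply]
      exact hx
    rw [hK (r + r) (Nat.le_add_left _ _)] at hx'
    rw [Submodule.mem_bot]
    exact hx'
  · intro x _
    have : (⇑φ)^[r] x ∈ OrderDual.ofDual (I (r + r)) := by
      rw [hI (r + r) (Nat.le_add_left _ _)]
      exact ⟨x, rfl⟩
    obtain ⟨y, hy⟩ := this
    rw [Function.iterate_add_apply] at hy
    refine Submodule.mem_sup.2 ⟨(⇑φ)^[r] y, ⟨y, rfl⟩, x - (⇑φ)^[r] y, ?_, add_sub_cancel _ _⟩
    show (⇑φ)^[r] (x - (⇑φ)^[r] y) = 0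
    rw [iterate_map_sub, hy, sub_self]
  · rintro _ ⟨x, rfl⟩
    exact ⟨φ x, by rw [← Function.iterate_succ_apply, Function.iterate_succ_apply']⟩
  · intro x hx
    show (⇑φ)^[r] (φ x) = 0
    rw [← Function.iterate_succ_apply, Function.iterate_succ_apply', show (⇑φ)^[r] x = 0 from hx, map_zero]
  · rintro _ ⟨x, rfl⟩
    exact ⟨φ x, by rw [← Function.iterate_succ_apply, Function.iterate_succ_apply']⟩
  · rintro _ ⟨x, rfl⟩ _ ⟨y, rfl⟩ h
    have hz : x - y ∈ K (r + 1) := by
      show (⇑φ)^[r + 1] (x - y) = 0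
      rw [iterate_map_sub, Function.iterate_succ_apply', Function.iterate_succ_apply', h, sub_self]
    rw [hK (r + 1) (Nat.le_succ _)] at hz
    rw [← sub_eq_zero, ← iterate_map_sub]
    exact hz
  · intro z hz
    have hz' : z ∈ OrderDual.ofDual (I (r + 1)) := by
      rw [hI (r + 1) (Nat.le_succ _)]
      exact hz
    obtain ⟨x, rfl⟩ := hz'
    exact ⟨(⇑φ)^[r] x, ⟨x, rfl⟩, (Function.iterate_succ_apply' _ _ _).symm⟩

theorem exists_fitting_of_isTorsion {A : Type u} [CommRing A] [IsDomain A] [IsPrincipalIdealRing A] [IsLocalRing A]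
    {M : Type v} [AddCommGroup M] [Module A M] [Module.Finite A M] (hM : Module.IsTorsion A M)
    (σ : A ≃+* A) (φ : M →ₛₗ[(σ : A →+* A)] M) :
    ∃ Ms Mn : Submodule A M, IsCompl Ms Mn ∧
      Set.MapsTo φ Ms Ms ∧ Set.MapsTo φ Mn Mn ∧ Set.BijOn φ Ms Ms ∧
      ∃ r : ℕ, ∀ x ∈ Mn, (⇑φ)^[r] x = 0 := by
  classical
  obtain ⟨s, hs⟩ := Module.Finite.fg_top (R := A) (M := M)
  choose c hc using fun x : M => hM (x := x)
  let a : A := ∏ x ∈ s, (c x : A)
  have ha : a ≠ 0 := Finset.prod_ne_zero_iff.2 fun x _ => nonZeroDivisors.coe_ne_zero (c x)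
  have hann : ∀ x : M, a • x = 0 := by
    intro x
    have hx : x ∈ Submodule.span A (s : Set M) := hs ▸ Submodule.mem_top
    induction hx using Submodule.span_induction with
    | mem y hy =>
      obtain ⟨d, hd⟩ : (c y : A) ∣ a := Finset.dvd_prod_of_mem _ hy
      rw [hd, mul_comm, mul_smul, show (c y : A) • y = 0 from hc y, smul_zero]
    | zero => exact smul_zero _
    | add y z _ _ hy hz => rw [smul_add, hy, hz, add_zero]
    | smul d y _ hy => rw [smul_comm, hy, smul_zero]
  haveI : Ring.KrullDimLE 0 (A ⧸ Ideal.span {a}) := Ring.krullDimLE_zero_iff.2 fun P hP => by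
    haveI := hP
    have hne : P.comap (Ideal.Quotient.mk (Ideal.span {a})) ≠ ⊥ := fun h => ha (by
      have : a ∈ P.comap (Ideal.Quotient.mk (Ideal.span {a})) := by
        rw [Ideal.mem_comap, Ideal.Quotient.eq_zero_iff_mem.2 (Ideal.mem_span_singleton_self a)]
        exact zero_mem _
      rwa [h, Ideal.mem_bot] at this)
    have hmax := Ideal.IsPrime.isMaximal (inferInstance : (P.comap (Ideal.Quotient.mk (Ideal.span {a}))).IsPrime) hne
    have h := Ideal.map_eq_top_or_isMaximal_of_surjective (Ideal.Quotient.mk (Ideal.span {a})) Ideal.Quotient.mk_surjective hmax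
    rw [Ideal.map_comap_of_surjective _ Ideal.Quotient.mk_surjective] at h
    exact h.resolve_left hP.ne_top
  haveI : IsArtinianRing (A ⧸ Ideal.span {a}) := IsNoetherianRing.isArtinianRing_of_krullDimLE_zero
  have hT : Module.IsTorsionBySet A M (Ideal.span {a} : Ideal A) := fun x ⟨c, hc⟩ => by
    obtain ⟨d, rfl⟩ := Ideal.mem_span_singleton'.1 hc
    show (d * a) • x = 0
    rw [mul_smul, hann, smul_zero]
  letI : Module (A ⧸ Ideal.span {a}) M := hT.module
  haveI : IsScalarTower A (A ⧸ Ideal.span {a}) M := hT.isScalarTower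
  haveI : Module.Finite (A ⧸ Ideal.span {a}) M := Module.Finite.of_restrictScalars_finite A _ _
  haveI : IsArtinian (A ⧸ Ideal.span {a}) M := inferInstance
  haveI : RingHomSurjective (Ideal.Quotient.mk (Ideal.span {a})) := ⟨Ideal.Quotient.mk_surjective⟩
  haveI : IsArtinian A M := (LinearMap.isArtinian_iff_of_bijective
    ({ toFun := id, map_add' := fun _ _ => rfl,
       map_smul' := fun c x => (Module.IsTorsionBySet.mk_smul hT c x).symm } :
      M →ₛₗ[Ideal.Quotient.mk (Ideal.span {a})] M) Function.bijective_id).2 inferInstance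
  exact exists_fitting σ φ

end Groth.Agent.Frob15
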