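import Mathlib.LinearAlgebra.Matrix.Charpoly.Coeff
import Mathlib.LinearAlgebra.Matrix.Charpoly.FiniteField
import Mathlib.RingTheory.Trace.Basic
import Mathlib.Algebra.CharP.Lemmas
import Mathlib.RingTheory.Polynomial.Basic

/-! The trace commutes with the `p`-th power in characteristic `p`. -/

set_option autoImplicit false

open Polynomial Matrix

namespace Groth.Agent.Frob15

variable {R : Type*} [CommRing R] (p : ℕ) [Fact p.Prime] [CharP R p]
variable {n : Type*} [DecidableEq n] [Fintype n]

theorem charpoly_pow_prime (M : Matrix n n R) :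
    (M ^ p).charpoly = M.charpoly.map (frobenius R p) := by
  cases isEmpty_or_nonempty n
  · simp [Matrix.charpoly]
  · refine Polynomial.expand_injective (Nat.Prime.pos Fact.out : 0 < p) ?_
    rw [← Polynomial.map_expand, Polynomial.map_frobenius_expand]
    unfold Matrix.charpoly
    rw [AlgHom.map_det, ← coe_detMonoidHom, ← (detMonoidHom : Matrix n n R[X] →* R[X]).map_pow]
    apply congr_arg det
    refine matPolyEquiv.injective ?_
    rw [map_pow, matPolyEquiv_charmatrix, sub_pow_char_of_commute (p := p) (C M).commute_X, ← C_pow]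
    exact matPolyEquiv_eq_X_pow_sub_C p M

theorem trace_pow_prime (M : Matrix n n R) : trace (M ^ p) = trace M ^ p := by
  cases isEmpty_or_nonempty n
  · simp [Matrix.trace, (Nat.Prime.ne_zero Fact.out : p ≠ 0)]
  nontriviality R
  rw [Matrix.trace_eq_neg_charpoly_coeff, Matrix.trace_eq_neg_charpoly_coeff, charpoly_pow_prime,
    Polynomial.coeff_map, ← map_neg, frobenius_def]

/-- The trace of a `p`-th power, in a ring where `p = 0`. -/
theorem trace_pow_char {S T : Type*} [CommRing S] [CommRing T] [Algebra S T] {ι : Type*} [Fintype ι]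
    (b : Module.Basis ι S T) (h : (p : S) = 0) (x : T) :
    Algebra.trace S T (x ^ p) = Algebra.trace S T x ^ p := by
  classical
  rcases subsingleton_or_nontrivial S with hS | hS
  · exact Subsingleton.elim _ _
  have : CharP S p := (CharP.charP_iff_prime_eq_zero Fact.out).2 h
  rw [Algebra.trace_eq_matrix_trace b, Algebra.trace_eq_matrix_trace b, map_pow, trace_pow_prime]

end Groth.Agent.Frob15
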