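import Groth.Agent.FinCovLib29.Split
import Groth.Agent.Frob15.TracePow
import Groth.Agent.Coherent.SchemeCoh
import Groth.Agent.Coherent.QcohOps
import Groth.Agent.Coherent.FinitePres
import Groth.Prelude.Def_Frob
import Groth.Prelude.Def_ClSub2

/-!
# The cokernel of Frobenius along a split finite cover

If `f : Y ⟶ X` is finite with `f_* O_Y` locally free of rank `d` prime to `p`, then the trace makes
`B¹_X = coker (O_X → F_* O_X)` a direct summand of `f_* B¹_Y`.
-/

set_option autoImplicit false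
set_option backward.isDefEq.respectTransparency.types false

universe u

open CategoryTheory CategoryTheory.Limits AlgebraicGeometry Opposite TopologicalSpace
open Groth.Agent.Coherent Groth.Agent.PicLib Groth.Agent.AmpleLib Groth.Agent.FinCovLib29

noncomputable section

namespace Groth.Agent.Frob15

theorem hom_ext_affine {Y : Scheme.{u}} {M N : Y.Modules} (a b : M ⟶ N)
    (h : ∀ (U : Y.Opens), IsAffineOpen U → ∀ x : Γ(M, U), a.app U x = b.app U x) : a = b := by
  refine Scheme.Modules.hom_ext _ _ fun V => ConcreteCategory.hom_ext _ _ fun x => ?_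
  refine AmpleLib.sec_ext N _ _ fun y hy => ?_
  obtain ⟨A, hA, hyA, hAV⟩ := Opens.isBasis_iff_nbhd.1 Y.isBasis_affineOpens hy
  refine ⟨A, hAV, hyA, ?_⟩
  rw [← app_resM, ← app_resM]
  exact h A hA _

section Coker

variable {Y : Scheme.{u}} {M N : Y.Modules} (φ : M ⟶ N) [Coh.IsQCoh M] [Coh.IsQCoh N]

theorem cokernelπ_surjective {U : Y.Opens} (hU : IsAffineOpen U) :
    Function.Surjective ((cokernel.π φ).app U) := by
  let S : ShortComplex Y.Modules :=
    ShortComplex.mk (kernel.ι (cokernel.π φ)) (cokernel.π φ) (kernel.condition _)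
  have hS : S.ShortExact := { exact := S.exact_of_f_is_kernel (kernelIsKernel _) }
  have := isQCoh_image φ
  exact sections_surjective (S := S) hS hU

theorem cokernelπ_exact {U : Y.Opens} (hU : IsAffineOpen U) (s : Γ(N, U))
    (h : (cokernel.π φ).app U s = 0) : ∃ t, φ.app U t = s := by
  let S : ShortComplex Y.Modules :=
    ShortComplex.mk (kernel.ι (cokernel.π φ)) (cokernel.π φ) (kernel.condition _)
  have hS : S.ShortExact := { exact := S.exact_of_f_is_kernel (kernelIsKernel _) }
  obtain ⟨k, hk⟩ := sections_exact (S := S) hS s h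
  have hw : kernel.ι φ ≫ Abelian.factorThruImage φ = 0 := by
    rw [← cancel_mono (Abelian.image.ι φ), Category.assoc, Abelian.image.fac, kernel.condition, zero_comp]
  let T : ShortComplex Y.Modules := ShortComplex.mk (kernel.ι φ) (Abelian.factorThruImage φ) hw
  have hT : T.ShortExact :=
    { exact := T.exact_of_f_is_kernel
        (isKernelOfComp (Abelian.image.ι φ) φ (kernelIsKernel φ) hw (Abelian.image.fac φ)) }
  have := isQCoh_kernel φ
  obtain ⟨t, ht⟩ := sections_surjective (S := T) hT hU k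
  refine ⟨t, ?_⟩
  rw [← hk, ← ht]
  exact ConcreteCategory.congr_hom (congrArg (fun ψ : M ⟶ N => ψ.app U) (Abelian.image.fac φ)).symm t

end Coker

variable (p : ℕ) [Fact p.Prime]

instance isAffineHom_frob (X : Scheme.{u}) [FrobSch.IsCharP X p] : IsAffineHom (FrobSch.frob X p) :=
  ⟨fun _ hU => hU⟩

variable {X Y : Scheme.{u}} (f : Y ⟶ X) [IsAffineHom f] [FrobSch.IsCharP X p] [FrobSch.IsCharP Y p]

/-- `F_* O`. -/
abbrev frobMod (X : Scheme.{u}) [FrobSch.IsCharP X p] : X.Modules :=
  (Scheme.Modules.pushforward (FrobSch.frob X p)).obj (Coh.structureModule X)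

/-- `O → F_* O`. -/
abbrev frobUnit (X : Scheme.{u}) [FrobSch.IsCharP X p] : Coh.structureModule X ⟶ frobMod p X :=
  ClSub.unitToPush (FrobSch.frob X p)

theorem isQCoh_frobMod (X : Scheme.{u}) [FrobSch.IsCharP X p] : Coh.IsQCoh (frobMod p X) :=
  have := Coherent.isQCoh_structureModule (X := X)
  Coherent.isQCoh_push (FrobSch.frob X p) (Coh.structureModule X)

/-- The image of `f_*` of the Frobenius cokernel. -/
abbrev pushFrobMod : X.Modules := (Scheme.Modules.pushforward f).obj (frobMod p Y)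

/-- `F_* O_X → f_* F_* O_Y`. -/
def incl : frobMod p X ⟶ pushFrobMod p f :=
  ⟨PresheafOfModules.homMk
    { app := fun U => AddCommGrpCat.ofHom ((f.app U.unop).hom : Γ(X, U.unop) →+* Γ(Y, f ⁻¹ᵁ U.unop)).toAddMonoidHom
      naturality := fun U V i => by
        ext s
        exact congr($(f.naturality i) s) }
    (fun U r s => by
      show (f.app U.unop).hom ((show Γ(X, U.unop) from r) ^ p * (show Γ(X, U.unop) from s)) =
        ((f.app U.unop).hom (show Γ(X, U.unop) from r)) ^ p * (f.app U.unop).hom (show Γ(X, U.unop) from s)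
      rw [map_mul, map_pow])⟩

variable {p f}

section Retraction

variable {d : ℕ} (hd : FlatMod.IsFinLocFreeOfRank d ((Scheme.Modules.pushforward f).obj (Coh.structureModule Y)))

variable (f) in
/-- The direct image algebra. -/
abbrev algY : RelSpec.QCAlg X := RelSpec.QCAlg.directImage f

variable (f) in
/-- The direct image algebra as a module is `f_* O_Y`. -/
def algIso : (algY f).toModule ≅ (Scheme.Modules.pushforward f).obj (Coh.structureModule Y) where
  hom := ⟨PresheafOfModules.homMk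
    { app := fun U => AddCommGrpCat.ofHom (AddMonoidHom.id Γ(Y, f ⁻¹ᵁ U.unop))
      naturality := fun _ _ _ => rfl }
    (fun _ _ _ => rfl)⟩
  inv := ⟨PresheafOfModules.homMk
    { app := fun U => AddCommGrpCat.ofHom (AddMonoidHom.id Γ(Y, f ⁻¹ᵁ U.unop))
      naturality := fun _ _ _ => rfl }
    (fun _ _ _ => rfl)⟩
  hom_inv_id := rfl
  inv_hom_id := rfl

include hd in
theorem rank_algY : FlatMod.IsFinLocFreeOfRank d (algY f).toModule := fun x => by
  obtain ⟨U, hx, ⟨e⟩⟩ := hd x
  exact ⟨U, hx, ⟨(Scheme.Modules.restrictFunctor U.ι).mapIso (algIso f) ≪≫ e⟩⟩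

include hd in
theorem flf_algY : FlatMod.IsFinLocFree (algY f).toModule := fun x => by
  obtain ⟨U, hx, h⟩ := rank_algY hd x
  exact ⟨U, d, hx, h⟩

variable (m : ℕ)

/-- `m` times the trace. -/
def rSec (U : X.Opens) (a : Γ(Y, f ⁻¹ᵁ U)) : Γ(X, U) :=
  (m : Γ(X, U)) * tauSec (algY f) (flf_algY hd) U a

theorem rSec_add (U : X.Opens) (a b : Γ(Y, f ⁻¹ᵁ U)) :
    rSec hd m U (a + b) = rSec hd m U a + rSec hd m U b := by
  refine Eq.trans ?_ (mul_add (m : Γ(X, U)) _ _)
  exact congrArg ((m : Γ(X, U)) * ·) (tauSec_add (algY f) (flf_algY hd) U a b)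

theorem rSec_mul (U : X.Opens) (r : Γ(X, U)) (a : Γ(Y, f ⁻¹ᵁ U)) :
    rSec hd m U ((f.app U).hom r * a) = r * rSec hd m U a := by
  show (m : Γ(X, U)) * tauSec (algY f) (flf_algY hd) U (r • (show Γ((algY f).toModule, U) from a)) = _
  rw [tauSec_smul]
  exact mul_left_comm _ _ _

theorem rSec_res {U V : X.Opens} (h : V ≤ U) (a : Γ(Y, f ⁻¹ᵁ U)) :
    X.presheaf.map (homOfLE h).op (rSec hd m U a) =
      rSec hd m V (Y.presheaf.map (homOfLE (f.preimage_mono h)).op a) := by
  show X.presheaf.map (homOfLE h).op ((m : Γ(X, U)) * _) = (m : Γ(X, V)) * _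
  rw [map_mul, map_natCast]
  exact congrArg ((m : Γ(X, V)) * ·) (tauSec_res (algY f) (flf_algY hd) h a)

theorem rSec_app (hm : ∀ U : X.Opens, (m : Γ(X, U)) * d = 1) (U : X.Opens) (r : Γ(X, U)) :
    rSec hd m U ((f.app U).hom r) = r := by
  have h := tau_str (rank_algY hd) (isTrace_tau (algY f) (flf_algY hd)) U r
  rw [rSec]
  refine (congrArg ((m : Γ(X, U)) * ·) h).trans ?_
  show (m : Γ(X, U)) * (d • r) = r
  rw [nsmul_eq_mul, ← mul_assoc, hm, one_mul]

theorem rSec_pow (U : X.Opens) (a : Γ(Y, f ⁻¹ᵁ U)) :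
    rSec hd m U (a ^ p) = rSec hd m U a ^ p := by
  let A := algY f
  have hA := flf_algY hd
  have hp : ∀ V : X.Opens, (p : Γ(X, V)) = 0 := FrobSch.natCast_eq_zero_app X p
  have key : tauSec A hA U (show Γ(A.toModule, U) from (show A.presheaf.obj (op U) from a) ^ p) =
      tauSec A hA U a ^ p := by
    refine tauSec_eq A hA U _ _ fun V hV hg => ?_
    rw [map_pow, tauSec_spec A hA U a V hV hg]
    obtain ⟨n, e, he⟩ := hg
    letI := secAlg A V
    show _ = Algebra.trace Γ(X, V) (A.presheaf.obj (op V))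
      ((A.presheaf.map (homOfLE hV).op).hom ((show A.presheaf.obj (op U) from a) ^ p))
    rw [map_pow, trace_pow_char p (secBasis A he le_rfl) (hp V)]
    rfl
  show (m : Γ(X, U)) * _ = ((m : Γ(X, U)) * _) ^ p
  rw [mul_pow]
  refine congrArg₂ (· * ·) ?_ key
  exact (map_natCast (FrobSch.powHom p Γ(X, U) (hp U)) m).symm

/-- `f_* F_* O_Y → F_* O_X`. -/
def retr : pushFrobMod p f ⟶ frobMod p X :=
  ⟨PresheafOfModules.homMk
    { app := fun U => AddCommGrpCat.ofHom (AddMonoidHom.mk' (rSec hd m U.unop) (rSec_add hd m U.unop))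
      naturality := fun U V i => ConcreteCategory.hom_ext _ _ fun a =>
        (rSec_res hd m (leOfHom i.unop) a).symm }
    (fun U r a => by
      show rSec hd m U.unop (((f.app U.unop).hom (show Γ(X, U.unop) from r)) ^ p * _) =
        (show Γ(X, U.unop) from r) ^ p * rSec hd m U.unop a
      rw [← map_pow]
      exact rSec_mul hd m U.unop _ _)⟩

theorem incl_retr (hm : ∀ U : X.Opens, (m : Γ(X, U)) * d = 1) : incl p f ≫ retr hd m = 𝟙 _ :=
  Scheme.Modules.hom_ext _ _ fun U => ConcreteCategory.hom_ext _ _ fun r => rSec_app hd m hm U r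

end Retraction

/-- `B¹`. -/
abbrev B1 (p : ℕ) [Fact p.Prime] (X : Scheme.{u}) [FrobSch.IsCharP X p] : X.Modules := cokernel (frobUnit p X)

variable (p f)

/-- `f_*` of the projection `F_* O_Y → B¹_Y`. -/
abbrev pushπ : pushFrobMod p f ⟶ (Scheme.Modules.pushforward f).obj (B1 p Y) :=
  (Scheme.Modules.pushforward f).map (cokernel.π (frobUnit p Y))

theorem epi_pushπ : Epi (pushπ p f) := by
  have := Coherent.isQCoh_structureModule (X := Y)
  have := isQCoh_frobMod p Y
  refine Coherent.epi_of_locally_surjective _ fun W a y hy => ?_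
  obtain ⟨A, hA, hyA, hAW⟩ := Opens.isBasis_iff_nbhd.1 X.isBasis_affineOpens hy
  obtain ⟨b, hb⟩ := cokernelπ_surjective (frobUnit p Y) (hA.preimage f)
    (resM ((Scheme.Modules.pushforward f).obj (B1 p Y)) hAW a)
  exact ⟨A, hAW, hyA, b, hb⟩

theorem unit_incl : frobUnit p X ≫ incl p f ≫ pushπ p f = 0 := by
  refine Scheme.Modules.hom_ext _ _ fun U => ConcreteCategory.hom_ext _ _ fun s => ?_
  show (cokernel.π (frobUnit p Y)).app (f ⁻¹ᵁ U) ((f.app U).hom ((show Γ(X, U) from s) ^ p)) = 0
  rw [map_pow]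
  exact ConcreteCategory.congr_hom
    (congrArg (fun ψ : Coh.structureModule Y ⟶ B1 p Y => ψ.app (f ⁻¹ᵁ U)) (cokernel.condition (frobUnit p Y)))
    ((f.app U).hom (show Γ(X, U) from s))

/-- `B¹_X` is a direct summand of `f_* B¹_Y`. -/
theorem exists_retraction {d : ℕ}
    (hd : FlatMod.IsFinLocFreeOfRank d ((Scheme.Modules.pushforward f).obj (Coh.structureModule Y)))
    (m : ℕ) (hm : ∀ U : X.Opens, (m : Γ(X, U)) * d = 1) :
    ∃ (a : B1 p X ⟶ (Scheme.Modules.pushforward f).obj (B1 p Y))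
      (b : (Scheme.Modules.pushforward f).obj (B1 p Y) ⟶ B1 p X), a ≫ b = 𝟙 _ := by
  have := Coherent.isQCoh_structureModule (X := Y)
  have := isQCoh_frobMod p Y
  have := epi_pushπ p f
  have h : kernel.ι (pushπ p f) ≫ retr hd m ≫ cokernel.π (frobUnit p X) = 0 := by
    refine hom_ext_affine _ _ fun U hU k => ?_
    obtain ⟨t, ht⟩ := cokernelπ_exact (frobUnit p Y) (hU.preimage f)
      ((kernel.ι (pushπ p f)).app U k) (kernel_ι_app_zero (pushπ p f) U k)
    show (cokernel.π (frobUnit p X)).app U (rSec hd m U ((kernel.ι (pushπ p f)).app U k)) = 0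
    rw [← ht]
    show (cokernel.π (frobUnit p X)).app U (rSec hd m U ((show Γ(Y, f ⁻¹ᵁ U) from t) ^ p)) = 0
    rw [rSec_pow]
    exact ConcreteCategory.congr_hom
      (congrArg (fun ψ : Coh.structureModule X ⟶ B1 p X => ψ.app U) (cokernel.condition (frobUnit p X)))
      (rSec hd m U t)
  refine ⟨cokernel.desc _ (incl p f ≫ pushπ p f) (unit_incl p f), Abelian.epiDesc _ _ h, ?_⟩
  rw [← cancel_epi (cokernel.π (frobUnit p X)), cokernel.π_desc_assoc, Category.assoc, Abelian.comp_epiDesc,
    ← Category.assoc, incl_retr hd m hm, Category.id_comp, Category.comp_id]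

include f in
/-- Acyclicity of `B¹` descends along a split cover. -/
theorem subsingleton_HH_B1 {d : ℕ}
    (hd : FlatMod.IsFinLocFreeOfRank d ((Scheme.Modules.pushforward f).obj (Coh.structureModule Y)))
    (m : ℕ) (hm : ∀ U : X.Opens, (m : Γ(X, U)) * d = 1) (i : ℕ) (hY : Subsingleton (Coh.HH Y (B1 p Y) i)) :
    Subsingleton (Coh.HH X (B1 p X) i) := by
  obtain ⟨a, b, hab⟩ := exists_retraction p f hd m hm
  have := Coherent.isQCoh_structureModule (X := Y)
  have := isQCoh_frobMod p Y
  have : Coh.IsQCoh (B1 p Y) := Coherent.isQCoh_cokernel _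
  have : Subsingleton (Coh.HH X ((Coh.push f).obj (B1 p Y)) i) :=
    (Coherent.HHAffinePushEquiv f (B1 p Y) i).symm.subsingleton
  refine subsingleton_of_forall_eq 0 fun x => ?_
  have e : Sheaf.H.map ((Coherent.toAbFunctor X).map b) i (Sheaf.H.map ((Coherent.toAbFunctor X).map a) i x) = x := by
    rw [← Sheaf.H.map_comp_apply, ← Functor.map_comp, hab, CategoryTheory.Functor.map_id, Sheaf.H.map_id_apply]
  rw [← e, Subsingleton.elim (Sheaf.H.map ((Coherent.toAbFunctor X).map a) i x) 0, map_zero]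

end Groth.Agent.Frob15
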